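import Cfsg.Agent.Lib.Helper4.Orb.GrpCo3
import Cfsg.Agent.Lib.Helper4.Orb.McLB.Main
import Cfsg.Agent.Lib.Helper4.Orb.C2.Main

set_option autoImplicit false
set_option linter.style.haveILetI false
set_option linter.unusedVariables false
set_option linter.unusedSectionVars false

/-! The stabiliser of a minimal vector is simple of order 42305421312000. -/

namespace Cfsg.Agent.Helper4.CO.Grp

open Cfsg Cfsg.Agent.Lib.Helper4 Cfsg.Agent.Lib.Helper28 Cfsg.Agent.Helper4.CO
  Cfsg.Agent.Helper4.LC MulAction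

theorem based_C2 (v : leechLattice) (hv : sqNorm (v : GolayPt → ℤ) = 32) :
    ∃ h : Co0, Based h v 0 0 C2.anc0 C2.anc1 C2.anc2 := by
  obtain ⟨h, hc, hz1, hz2⟩ := C2.exists_base v hv
  exact ⟨h, hc, hz1, hz2⟩

theorem card_A (v : leechLattice) (hv : sqNorm (v : GolayPt → ℤ) = 32) :
    (dotSet 32 v 0 0 (-16, 0, 0)).ncard = 4600 := by
  obtain ⟨h, hb⟩ := based_C2 v hv
  rw [hb.ncard C2.anc0_in.1 C2.anc1_in.1 C2.anc2_in.1, C2.countA]

theorem card_B (v : leechLattice) (hv : sqNorm (v : GolayPt → ℤ) = 32) :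
    (dotSet 32 v 0 0 (-8, 0, 0)).ncard = 47104 := by
  obtain ⟨h, hb⟩ := based_C2 v hv
  rw [hb.ncard C2.anc0_in.1 C2.anc1_in.1 C2.anc2_in.1, C2.countB]

theorem card_C (v : leechLattice) (hv : sqNorm (v : GolayPt → ℤ) = 32) :
    (dotSet 32 v 0 0 (0, 0, 0)).ncard = 93150 := by
  obtain ⟨h, hb⟩ := based_C2 v hv
  rw [hb.ncard C2.anc0_in.1 C2.anc1_in.1 C2.anc2_in.1, C2.countC]

theorem trans_B (v : leechLattice) (hv : sqNorm (v : GolayPt → ℤ) = 32) {w w' : leechLattice}
    (hw : w ∈ dotSet 32 v 0 0 (-8, 0, 0)) (hw' : w' ∈ dotSet 32 v 0 0 (-8, 0, 0)) :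
    ∃ g : Co0, g • v = v ∧ g • w = w' := by
  have h1 := mem_dotSet_zero23.mp hw
  have h2 := mem_dotSet_zero23.mp hw'
  exact C2.main_trans (-8) C2.transB v w w' hv h1.1 h2.1 h1.2 h2.2

theorem u0V_norm : sqNorm (u0V : GolayPt → ℤ) = 48 := by
  show sqNorm (toV HSx.anc0) = 48
  rw [sqNorm_toV _ HSx.anc0_in.1]; decide

theorem w0V_norm : sqNorm (w0V : GolayPt → ℤ) = 48 := by
  show sqNorm (toV HSx.anc1) = 48
  rw [sqNorm_toV _ HSx.anc1_in.1]; decide

theorem u0V_w0V_dot : dotInt (u0V : GolayPt → ℤ) (w0V : GolayPt → ℤ) = -32 := by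
  show dotInt (toV HSx.anc0) (toV HSx.anc1) = -32
  rw [dotInt_toV _ _ HSx.anc0_in.1 HSx.anc1_in.1]; decide

theorem xsV_norm : sqNorm (xsV : GolayPt → ℤ) = 32 := by
  show sqNorm ((u0V : GolayPt → ℤ) + (w0V : GolayPt → ℤ)) = 32
  rw [sqNorm_add, u0V_norm, w0V_norm, u0V_w0V_dot]; norm_num

/-- a minimal vector is the sum of two vectors of sum of squares 48 with inner product `-32` -/
theorem exists_hs_pair (v : leechLattice) (hv : sqNorm (v : GolayPt → ℤ) = 32) :
    ∃ a b : leechLattice, sqNorm (a : GolayPt → ℤ) = 48 ∧ sqNorm (b : GolayPt → ℤ) = 48 ∧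
      dotInt (a : GolayPt → ℤ) (b : GolayPt → ℤ) = -32 ∧ a + b = v := by
  obtain ⟨g, hg⟩ := (conj_base32 v hv).trans (conj_base32 xsV xsV_norm).symm
  refine ⟨g⁻¹ • u0V, g⁻¹ • w0V, ?_, ?_, ?_, ?_⟩
  · rw [co0_sqNorm', u0V_norm]
  · rw [co0_sqNorm', w0V_norm]
  · rw [co0_dot', u0V_w0V_dot]
  · rw [← co0_smul_add, inv_smul_eq_iff, hg]; rfl

/-- the values of the inner product with `v + w` on the 47104 vectors -/
theorem b_cases (v w : leechLattice) (hv : sqNorm (v : GolayPt → ℤ) = 32)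
    (hw : w ∈ dotSet 32 v 0 0 (-8, 0, 0)) {z : leechLattice}
    (hz : z ∈ dotSet 32 v 0 0 (-8, 0, 0)) (hzw : z ≠ w) :
    dotInt ((v + w : leechLattice) : GolayPt → ℤ) (z : GolayPt → ℤ) ∈
      ([8, 0, -8, -16, -24] : List ℤ) := by
  have hw' := mem_dotSet_zero23.mp hw
  have hu := Front.sum_norm v w hv hw'.1 hw'.2
  have hvP := Front.sum_memP v w hv hw'.1 hw'.2
  obtain ⟨c1, c2, c3, c4, c5⟩ := McLB.card_of (v + w) v hu hvP
  have hB := card_B v hv
  have hfin : (dotSet 32 v 0 0 (-8, 0, 0)).Finite :=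
    Set.finite_of_ncard_ne_zero (by rw [hB]; norm_num)
  have hfib : ∀ c : ℤ, {y | y ∈ dotSet 32 v 0 0 (-8, 0, 0) ∧
      dotInt ((v + w : leechLattice) : GolayPt → ℤ) (y : GolayPt → ℤ) = c} =
      dotSet 32 (v + w) v 0 (c, -8, 0) := by
    intro c
    ext z
    rw [Set.mem_setOf_eq, mem_dotSet_zero23, mem_dotSet_zero3]
    constructor
    · rintro ⟨⟨h1, h2⟩, h3⟩; exact ⟨h1, h3, h2⟩
    · rintro ⟨h1, h2, h3⟩; exact ⟨⟨h1, h3⟩, h2⟩
  have hdot : ∀ y : leechLattice, dotInt ((v + w : leechLattice) : GolayPt → ℤ) (y : GolayPt → ℤ) =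
      dotInt (v : GolayPt → ℤ) (y : GolayPt → ℤ) + dotInt (w : GolayPt → ℤ) (y : GolayPt → ℤ) := by
    intro y
    have e : ((v + w : leechLattice) : GolayPt → ℤ) = (v : GolayPt → ℤ) + (w : GolayPt → ℤ) := rfl
    rw [e, dotInt_comm', dotInt_add_right, dotInt_comm' _ (v : GolayPt → ℤ),
      dotInt_comm' _ (w : GolayPt → ℤ)]
  have hfx : {y | y ∈ dotSet 32 v 0 0 (-8, 0, 0) ∧
      dotInt ((v + w : leechLattice) : GolayPt → ℤ) (y : GolayPt → ℤ) = 24} = {w} := by
    ext z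
    rw [Set.mem_setOf_eq, Set.mem_singleton_iff]
    constructor
    · rintro ⟨hz, hd⟩
      have hz' := mem_dotSet_zero23.mp hz
      rw [hdot, hz'.2] at hd
      exact eq_of_dot_eq_sqNorm hw'.1 hz'.1 (by omega)
    · rintro rfl
      refine ⟨hw, ?_⟩
      rw [hdot, hw'.2, dotInt_self', hw'.1]; norm_num
  have hval := values_of_ncard (dotSet 32 v 0 0 (-8, 0, 0)) hfin
    (fun y => dotInt ((v + w : leechLattice) : GolayPt → ℤ) (y : GolayPt → ℤ))
    [24, 8, 0, -8, -16, -24] (by decide)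
    (by
      simp only [List.map_cons, List.map_nil, List.sum_cons, List.sum_nil]
      rw [hfx, hfib 8, hfib 0, hfib (-8), hfib (-16), hfib (-24), Set.ncard_singleton, c1, c2, c3,
        c4, c5, hB]
      norm_num) z hz
  rcases List.mem_cons.mp hval with h | h
  · exfalso
    apply hzw
    have : z ∈ ({w} : Set leechLattice) := by rw [← hfx]; exact ⟨hz, h⟩
    exact this
  · exact h

theorem co2_simpCard (v : leechLattice) (hv : sqNorm (v : GolayPt → ℤ) = 32) :
    SimpCard ↥(stabilizer Co0 v) 42305421312000 := by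
  have hB := card_B v hv
  obtain ⟨w, hw⟩ := Set.nonempty_of_ncard_ne_zero (by rw [hB]; norm_num :
    (dotSet 32 v 0 0 (-8, 0, 0)).ncard ≠ 0)
  have hw' := mem_dotSet_zero23.mp hw
  have hu := Front.sum_norm v w hv hw'.1 hw'.2
  have hvP := Front.sum_memP v w hv hw'.1 hw'.2
  set u : leechLattice := v + w with hu_def
  obtain ⟨c1, c2, c3, c4, c5⟩ := McLB.card_of u v hu hvP
  set S : Subgroup Co0 := stabilizer Co0 v with hS
  have hSmem : ∀ g : Co0, g ∈ S ↔ (g • v = v ∧ g • (0 : leechLattice) = 0 ∧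
      g • (0 : leechLattice) = 0) := by
    intro g
    rw [hS, mem_stabilizer_iff]
    simp only [co0_smul_zero, and_true]
  have horb : orbit ↥S w = dotSet 32 v 0 0 (-8, 0, 0) :=
    orbit_eq_dotSet S hSmem
      (fun y hy y' hy' => by
        obtain ⟨g, h1, h2⟩ := trans_B v hv hy hy'
        exact ⟨g, h1, co0_smul_zero g, co0_smul_zero g, h2⟩) hw
  have hmcl : SimpCard ↥(S ⊓ stabilizer Co0 w) 898128000 :=
    mcl_simpCard' v w hv hw'.1 hw'.2
  have hcard : Nat.card ↥S = 42305421312000 := by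
    rw [card_eq_orbit_mul S w, horb, hB, hmcl.2]
  haveI : Finite ↥S := Nat.finite_of_card_ne_zero (by rw [hcard]; norm_num)
  have hHs : IsSimpleGroup ↥(stabilizer ↥S w) := (hmcl.congr (stabEquiv S w).symm).1
  have hidx : (stabilizer ↥S w).index = 47104 := by rw [index_stabilizer, horb, hB]
  -- the second subgroup
  obtain ⟨a, b, ha, hb, hab, habv⟩ := exists_hs_pair v hv
  have hhs := hs_simpCard a b ha hb hab
  have hle : stabilizer Co0 a ⊓ stabilizer Co0 b ≤ S := by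
    intro g hg
    obtain ⟨h1, h2⟩ := Subgroup.mem_inf.mp hg
    rw [mem_stabilizer_iff] at h1 h2
    rw [hS, mem_stabilizer_iff, ← habv, co0_smul_add, h1, h2]
  set K : Subgroup ↥S := (stabilizer Co0 a ⊓ stabilizer Co0 b).subgroupOf S with hK
  have hKs := hhs.congr (Subgroup.subgroupOfEquivOfLe hle).symm
  have hKidx : K.index = 953856 := by
    have h1 := K.card_mul_index
    rw [hKs.2, hcard] at h1
    omega
  have hsub : ∀ c : ℤ, dotSet 32 u v 0 (c, -8, 0) ⊆ dotSet 32 v 0 0 (-8, 0, 0) := by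
    intro c y hy
    exact mem_dotSet_zero23.mpr ⟨hy.1, hy.2.2.1⟩
  have hmk : ∀ g : Co0, g • u = u → g • v = v →
      ∃ h : ↥S, h ∈ stabilizer ↥S w ∧ ∀ y : leechLattice, h • y = g • y := by
    intro g h1 h2
    exact ⟨⟨g, h2⟩, Front.fix_w_of v w h1 h2, fun y => rfl⟩
  have huw : dotInt (u : GolayPt → ℤ) (w : GolayPt → ℤ) = 24 := by
    have e : ((v + w : leechLattice) : GolayPt → ℤ) = (v : GolayPt → ℤ) + (w : GolayPt → ℤ) := rfl
    rw [hu_def, e, dotInt_comm', dotInt_add_right, dotInt_self', hw'.1, dotInt_comm', hw'.2]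
    norm_num
  have hdj : ∀ c c' : ℤ, c ≠ c' → ∀ y : leechLattice, y ∈ dotSet 32 u v 0 (c, -8, 0) →
      y ∉ dotSet 32 u v 0 (c', -8, 0) := by
    intro c c' hcc y h1 h2
    exact hcc (h1.2.1.symm.trans h2.2.1)
  have htr : ∀ c : ℤ, ((c, (-8 : ℤ), (0 : ℤ)) = (8, -8, 0) ∨ (c, (-8 : ℤ), (0 : ℤ)) = (0, -8, 0) ∨
      (c, (-8 : ℤ), (0 : ℤ)) = (-8, -8, 0) ∨ (c, (-8 : ℤ), (0 : ℤ)) = (-16, -8, 0) ∨
      (c, (-8 : ℤ), (0 : ℤ)) = (-24, -8, 0)) → ∀ y ∈ dotSet 32 u v 0 (c, -8, 0),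
      ∀ y' ∈ dotSet 32 u v 0 (c, -8, 0), ∃ h ∈ stabilizer ↥S w, h • y = y' := by
    intro c hc y hy y' hy'
    obtain ⟨g, h1, h2, h3⟩ := McLB.trans_of u v hu hvP (c, -8, 0) hc hy hy'
    obtain ⟨h, hh, hact⟩ := hmk g h1 h2
    exact ⟨h, hh, by rw [hact]; exact h3⟩
  have hmax := SC.maximal_of_suborbits (G := ↥S) w
    ![dotSet 32 u v 0 (8, -8, 0), dotSet 32 u v 0 (0, -8, 0), dotSet 32 u v 0 (-8, -8, 0),
      dotSet 32 u v 0 (-16, -8, 0), dotSet 32 u v 0 (-24, -8, 0)]
    ![2025, 15400, 22275, 7128, 275]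
    (by
      rw [horb]
      intro y hy
      by_cases hyw : y = w
      · exact Or.inl hyw
      · right
        have hy' := mem_dotSet_zero23.mp hy
        have := b_cases v w hv hw hy hyw
        simp only [List.mem_cons, List.not_mem_nil, or_false] at this
        rcases this with h | h | h | h | h
        · exact ⟨0, hy'.1, h, hy'.2, dotInt_zero_left _⟩
        · exact ⟨1, hy'.1, h, hy'.2, dotInt_zero_left _⟩
        · exact ⟨2, hy'.1, h, hy'.2, dotInt_zero_left _⟩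
        · exact ⟨3, hy'.1, h, hy'.2, dotInt_zero_left _⟩
        · exact ⟨4, hy'.1, h, hy'.2, dotInt_zero_left _⟩)
    (by
      rw [horb]
      intro i
      fin_cases i
      · exact hsub 8
      · exact hsub 0
      · exact hsub (-8)
      · exact hsub (-16)
      · exact hsub (-24))
    (by
      intro i
      fin_cases i
      · exact Set.finite_of_ncard_ne_zero
          (by show (dotSet 32 u v 0 (8, -8, 0)).ncard ≠ 0; rw [c1]; norm_num)
      · exact Set.finite_of_ncard_ne_zero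
          (by show (dotSet 32 u v 0 (0, -8, 0)).ncard ≠ 0; rw [c2]; norm_num)
      · exact Set.finite_of_ncard_ne_zero
          (by show (dotSet 32 u v 0 (-8, -8, 0)).ncard ≠ 0; rw [c3]; norm_num)
      · exact Set.finite_of_ncard_ne_zero
          (by show (dotSet 32 u v 0 (-16, -8, 0)).ncard ≠ 0; rw [c4]; norm_num)
      · exact Set.finite_of_ncard_ne_zero
          (by show (dotSet 32 u v 0 (-24, -8, 0)).ncard ≠ 0; rw [c5]; norm_num))
    (by
      intro i
      fin_cases i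
      · intro h
        have h4 : dotInt (u : GolayPt → ℤ) (w : GolayPt → ℤ) = 8 := h.2.1
        omega
      · intro h
        have h4 : dotInt (u : GolayPt → ℤ) (w : GolayPt → ℤ) = 0 := h.2.1
        omega
      · intro h
        have h4 : dotInt (u : GolayPt → ℤ) (w : GolayPt → ℤ) = -8 := h.2.1
        omega
      · intro h
        have h4 : dotInt (u : GolayPt → ℤ) (w : GolayPt → ℤ) = -16 := h.2.1
        omega
      · intro h
        have h4 : dotInt (u : GolayPt → ℤ) (w : GolayPt → ℤ) = -24 := h.2.1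
        omega)
    (by
      intro i j hij
      rw [Set.disjoint_left]
      fin_cases i <;> fin_cases j <;>
        first | exact absurd rfl hij | exact hdj _ _ (by norm_num))
    (by
      intro i
      fin_cases i
      · exact c1
      · exact c2
      · exact c3
      · exact c4
      · exact c5)
    (by
      intro i
      fin_cases i
      · exact htr 8 (Or.inl rfl)
      · exact htr 0 (Or.inr (Or.inl rfl))
      · exact htr (-8) (Or.inr (Or.inr (Or.inl rfl)))
      · exact htr (-16) (Or.inr (Or.inr (Or.inr (Or.inl rfl))))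
      · exact htr (-24) (Or.inr (Or.inr (Or.inr (Or.inr rfl)))))
    (by decide)
  have hnn : ¬ (stabilizer ↥S w).Normal := by
    obtain ⟨y, y', hy, hy', hne⟩ := (Set.one_lt_ncard_iff
      (Set.finite_of_ncard_ne_zero (by rw [c1]; norm_num))).mp
      (by rw [c1]; norm_num : 1 < (dotSet 32 u v 0 (8, -8, 0)).ncard)
    obtain ⟨h, hh, hact⟩ := htr 8 (Or.inl rfl) y hy y' hy'
    apply SC.not_normal_of_moves w h hh y (by rw [horb]; exact hsub 8 hy)
    rw [hact]
    exact fun h => hne h.symm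
  refine ⟨SC.simple_of_max_of_simple (stabilizer ↥S w) K hHs hKs.1 hmax hnn ?_ ?_, hcard⟩
  · rw [hidx, hKs.2]; norm_num
  · rw [hidx, hKidx]; norm_num

end Cfsg.Agent.Helper4.CO.Grp
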