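import Cfsg.Agent.Lib.Helper4.Orb.GrpCo0

set_option autoImplicit false
set_option linter.style.haveILetI false
set_option linter.unusedVariables false
set_option linter.unusedSectionVars false

/-! The automorphism group of the rank-24 lattice modulo its centre is simple. -/

namespace Cfsg.Agent.Helper4.CO.Grp

open Cfsg Cfsg.Agent.Lib.Helper4 Cfsg.Agent.Lib.Helper28 Cfsg.Agent.Helper4.CO
  Cfsg.Agent.Helper4.LC MulAction

/-- negation -/
def negE : Co0 := ⟨Equiv.neg leechLattice, Cfsg.Agent.S0398.neg_mem⟩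

theorem negE_smul (x : leechLattice) : negE • x = -x := rfl

theorem negE_mem_center : negE ∈ Subgroup.center Co0 := by
  rw [Subgroup.mem_center_iff]
  intro g
  apply Subtype.ext
  apply Equiv.ext
  intro v
  show (g : Equiv.Perm leechLattice) (-v) = - (g : Equiv.Perm leechLattice) v
  exact Cfsg.Agent.S0398.co0_neg g v

theorem center_cases (z : Co0) (hz : z ∈ Subgroup.center Co0) :
    (∀ x : leechLattice, z • x = x) ∨ (∀ x : leechLattice, z • x = -x) := by
  obtain ⟨s, hs, hsx⟩ := Cfsg.Agent.S0398.central_eq_sign z hz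
  rcases hs with rfl | rfl
  · left
    intro x
    apply Subtype.ext
    have := hsx x
    rw [one_smul] at this
    exact this
  · right
    intro x
    apply Subtype.ext
    have := hsx x
    rw [neg_one_smul] at this
    exact this

theorem ne_neg_of_norm (x : leechLattice) {N : ℤ} (hN : N ≠ 0)
    (hx : sqNorm (x : GolayPt → ℤ) = N) : x ≠ -x := by
  intro h
  have h0 : x = 0 := by
    have h2 : x + x = 0 := by nth_rewrite 2 [h]; exact add_neg_cancel x
    apply Subtype.ext
    funext i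
    have := congrFun (congrArg (fun v : leechLattice => (v : GolayPt → ℤ)) h2) i
    simp only [AddSubgroup.coe_add, Pi.add_apply, AddSubgroup.coe_zero, Pi.zero_apply] at this
    show (x : GolayPt → ℤ) i = 0
    omega
  apply hN
  rw [← hx, h0]
  unfold sqNorm
  simp

/-- the automorphisms preserving `{v, -v}` -/
def pmStab (v : leechLattice) : Subgroup Co0 where
  carrier := {g | g • v = v ∨ g • v = -v}
  one_mem' := Or.inl (one_smul _ _)
  mul_mem' := by
    rintro a b (ha | ha) (hb | hb)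
    · left; rw [mul_smul, hb, ha]
    · right; rw [mul_smul, hb, co0_smul_neg, ha]
    · right; rw [mul_smul, hb, ha]
    · left; rw [mul_smul, hb, co0_smul_neg, ha, neg_neg]
  inv_mem' := by
    rintro a (ha | ha)
    · left; rw [inv_smul_eq_iff, ha]
    · right; rw [inv_smul_eq_iff, co0_smul_neg, ha, neg_neg]

theorem mem_pmStab (v : leechLattice) (g : Co0) : g ∈ pmStab v ↔ (g • v = v ∨ g • v = -v) :=
  Iff.rfl

theorem stab_le_pmStab (v : leechLattice) : stabilizer Co0 v ≤ pmStab v :=
  fun g hg => Or.inl hg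

theorem negE_mem_pmStab (v : leechLattice) : negE ∈ pmStab v := Or.inr rfl

theorem mk_mem_map_iff (v : leechLattice) (g : Co0) :
    (QuotientGroup.mk' (Subgroup.center Co0)) g ∈
      (stabilizer Co0 v).map (QuotientGroup.mk' (Subgroup.center Co0)) ↔ g ∈ pmStab v := by
  constructor
  · rintro ⟨h, hh, heq⟩
    have hz : h⁻¹ * g ∈ Subgroup.center Co0 := QuotientGroup.eq.mp heq
    have hg : g • v = h • ((h⁻¹ * g) • v) := by rw [← mul_smul, mul_inv_cancel_left]
    have hh' : h • v = v := hh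
    rcases center_cases _ hz with hc | hc
    · left; rw [hg, hc, hh']
    · right; rw [hg, hc, co0_smul_neg, hh']
  · rintro (hg | hg)
    · exact ⟨g, hg, rfl⟩
    · refine ⟨negE * g, ?_, ?_⟩
      · show (negE * g) • v = v
        rw [mul_smul, hg, negE_smul, neg_neg]
      · rw [map_mul]
        have : (QuotientGroup.mk' (Subgroup.center Co0)) negE = 1 :=
          (QuotientGroup.eq_one_iff _).mpr negE_mem_center
        rw [this, one_mul]

/-- a subgroup fixing a non-zero vector maps isomorphically to the quotient by the centre -/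
theorem exists_map_equiv (T : Subgroup Co0) (x : leechLattice) (hx : x ≠ -x)
    (hT : T ≤ stabilizer Co0 x) :
    Nonempty (↥T ≃* ↥(T.map (QuotientGroup.mk' (Subgroup.center Co0)))) := by
  have hinj : Function.Injective ((QuotientGroup.mk' (Subgroup.center Co0)).subgroupMap T) := by
    rw [injective_iff_map_eq_one]
    intro t ht
    have h1 : (QuotientGroup.mk' (Subgroup.center Co0)) (t : Co0) = 1 :=
      congrArg Subtype.val ht
    have h2 : (t : Co0) ∈ Subgroup.center Co0 := (QuotientGroup.eq_one_iff _).mp h1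
    have h3 : (t : Co0) • x = x := hT t.2
    rcases center_cases _ h2 with hc | hc
    · apply Subtype.ext
      apply Subtype.ext
      apply Equiv.ext
      intro y
      exact hc y
    · exfalso
      apply hx
      rw [← hc x, h3]
  exact ⟨MulEquiv.ofBijective _ ⟨hinj, MonoidHom.subgroupMap_surjective _ T⟩⟩

section Prim

variable (v : leechLattice) (hv : sqNorm (v : GolayPt → ℤ) = 32)

theorem neg_mem_dotSet {c : ℤ} {x : leechLattice} (hx : x ∈ dotSet 32 v 0 0 (c, 0, 0)) :
    -x ∈ dotSet 32 v 0 0 (-c, 0, 0) := by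
  have hx' := mem_dotSet_zero23.mp hx
  rw [mem_dotSet_zero23]
  refine ⟨?_, ?_⟩
  · rw [AddSubgroup.coe_neg, sqNorm_neg']; exact hx'.1
  · rw [AddSubgroup.coe_neg, dotInt_neg_right, hx'.2]

theorem ncard_neg_dotSet (c : ℤ) :
    (dotSet 32 v 0 0 (-c, 0, 0)).ncard = (dotSet 32 v 0 0 (c, 0, 0)).ncard := by
  rw [← Set.ncard_image_of_injective (dotSet 32 v 0 0 (c, 0, 0)) neg_injective]
  congr 1
  ext x
  constructor
  · intro hx
    refine ⟨-x, ?_, neg_neg x⟩
    have := neg_mem_dotSet v hx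
    rwa [neg_neg] at this
  · rintro ⟨y, hy, rfl⟩
    exact neg_mem_dotSet v hy

include hv in
theorem trans_pm (c : ℤ)
    (htr : ∀ x ∈ statSet 32 C2.anc0 C2.anc1 C2.anc2 (c, 0, 0),
      ∀ y ∈ statSet 32 C2.anc0 C2.anc1 C2.anc2 (c, 0, 0),
      ∃ g : Co0, (∀ a ∈ C2.anchors, FixL g a) ∧ g • x = y) :
    ∀ x ∈ dotSet 32 v 0 0 (c, 0, 0) ∪ dotSet 32 v 0 0 (-c, 0, 0),
    ∀ y ∈ dotSet 32 v 0 0 (c, 0, 0) ∪ dotSet 32 v 0 0 (-c, 0, 0),
      ∃ h ∈ pmStab v, h • x = y := by
  have key : ∀ x ∈ dotSet 32 v 0 0 (c, 0, 0), ∀ y ∈ dotSet 32 v 0 0 (c, 0, 0),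
      ∃ g : Co0, g • v = v ∧ g • x = y := by
    intro x hx y hy
    have h1 := mem_dotSet_zero23.mp hx
    have h2 := mem_dotSet_zero23.mp hy
    exact C2.main_trans c htr v x y hv h1.1 h2.1 h1.2 h2.2
  have hneg : ∀ x ∈ dotSet 32 v 0 0 (-c, 0, 0), -x ∈ dotSet 32 v 0 0 (c, 0, 0) := by
    intro x hx
    have := neg_mem_dotSet v hx
    rwa [neg_neg] at this
  rintro x (hx | hx) y (hy | hy)
  · obtain ⟨g, h1, h2⟩ := key x hx y hy
    exact ⟨g, Or.inl h1, h2⟩
  · obtain ⟨g, h1, h2⟩ := key x hx (-y) (hneg y hy)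
    refine ⟨negE * g, (pmStab v).mul_mem (negE_mem_pmStab v) (Or.inl h1), ?_⟩
    rw [mul_smul, h2, negE_smul, neg_neg]
  · obtain ⟨g, h1, h2⟩ := key (-x) (hneg x hx) y hy
    refine ⟨negE * g, (pmStab v).mul_mem (negE_mem_pmStab v) (Or.inl h1), ?_⟩
    rw [mul_smul, negE_smul, ← co0_smul_neg, h2]
  · obtain ⟨g, h1, h2⟩ := key (-x) (hneg x hx) (-y) (hneg y hy)
    refine ⟨g, Or.inl h1, ?_⟩
    rw [co0_smul_neg] at h2
    exact neg_injective h2

include hv in
/-- the values of the inner product with a minimal vector on the minimal vectors -/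
theorem min_cases {z : leechLattice} (hz : z ∈ minSet) :
    dotInt (v : GolayPt → ℤ) (z : GolayPt → ℤ) ∈ ([32, -32, -16, 16, -8, 8, 0] : List ℤ) := by
  have hfin : minSet.Finite := Set.finite_of_ncard_ne_zero (by rw [ncard_minSet]; norm_num)
  have hfib : ∀ c : ℤ, {y | y ∈ minSet ∧ dotInt (v : GolayPt → ℤ) (y : GolayPt → ℤ) = c} =
      dotSet 32 v 0 0 (c, 0, 0) := by
    intro c
    ext z
    rw [Set.mem_setOf_eq, mem_dotSet_zero23]
    rfl
  have h32 : dotSet 32 v 0 0 (32, 0, 0) = {v} := by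
    ext z
    rw [mem_dotSet_zero23, Set.mem_singleton_iff]
    constructor
    · rintro ⟨h1, h2⟩
      exact eq_of_dot_eq_sqNorm hv h1 h2
    · rintro rfl
      exact ⟨hv, by rw [dotInt_self', hv]⟩
  have h32' : dotSet 32 v 0 0 (-32, 0, 0) = {-v} := by
    ext z
    rw [Set.mem_singleton_iff]
    constructor
    · intro hz
      have h1 := neg_mem_dotSet v hz
      rw [neg_neg, h32, Set.mem_singleton_iff] at h1
      rw [← h1, neg_neg]
    · rintro rfl
      have : v ∈ dotSet 32 v 0 0 (32, 0, 0) := by rw [h32]; rfl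
      exact neg_mem_dotSet v this
  have hA := card_A v hv
  have hB := card_B v hv
  have hC := card_C v hv
  have hA' : (dotSet 32 v 0 0 (16, 0, 0)).ncard = 4600 := by
    have := ncard_neg_dotSet v 16
    rw [hA] at this
    exact this.symm
  have hB' : (dotSet 32 v 0 0 (8, 0, 0)).ncard = 47104 := by
    have := ncard_neg_dotSet v 8
    rw [hB] at this
    exact this.symm
  exact values_of_ncard minSet hfin
    (fun y => dotInt (v : GolayPt → ℤ) (y : GolayPt → ℤ))
    [32, -32, -16, 16, -8, 8, 0] (by decide)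
    (by
      simp only [List.map_cons, List.map_nil, List.sum_cons, List.sum_nil]
      rw [hfib 32, hfib (-32), hfib (-16), hfib 16, hfib (-8), hfib 8, hfib 0, h32, h32',
        Set.ncard_singleton, Set.ncard_singleton, hA, hA', hB, hB', hC, ncard_minSet]
      <;> norm_num) z hz

include hv in
theorem pm_prim (S : Set leechLattice) (h1 : v ∈ S) (h2 : S ⊆ orbit Co0 v)
    (h3 : ∀ h ∈ pmStab v, ∀ x ∈ S, h • x ∈ S) (h4 : S.ncard ∣ (orbit Co0 v).ncard) :
    S = orbit (pmStab v) v ∨ S = orbit Co0 v := by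
  have hne := ne_neg_of_norm v (by norm_num) hv
  have horb : orbit (pmStab v) v = {v, -v} := by
    ext y
    constructor
    · rintro ⟨⟨g, hg⟩, rfl⟩
      rcases hg with h | h
      · left; exact h
      · right; exact h
    · rintro (rfl | rfl)
      · exact mem_orbit_self _
      · exact ⟨⟨negE, negE_mem_pmStab v⟩, negE_smul v⟩
  rw [horb, orbit_min v hv] at *
  have hA := card_A v hv
  have hB := card_B v hv
  have hC := card_C v hv
  have hA' : (dotSet 32 v 0 0 (16, 0, 0)).ncard = 4600 := by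
    have := ncard_neg_dotSet v 16
    rw [hA] at this
    exact this.symm
  have hB' : (dotSet 32 v 0 0 (8, 0, 0)).ncard = 47104 := by
    have := ncard_neg_dotSet v 8
    rw [hB] at this
    exact this.symm
  have hfinc : ∀ (c : ℤ) (n : ℕ), n ≠ 0 → (dotSet 32 v 0 0 (c, 0, 0)).ncard = n →
      (dotSet 32 v 0 0 (c, 0, 0)).Finite := by
    intro c n hn h
    exact Set.finite_of_ncard_ne_zero (by rw [h]; exact hn)
  have hdj : ∀ c c' : ℤ, c ≠ c' → Disjoint (dotSet 32 v 0 0 (c, 0, 0)) (dotSet 32 v 0 0 (c', 0, 0)) := by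
    intro c c' hcc
    rw [Set.disjoint_left]
    intro y h1 h2
    exact hcc (h1.2.1.symm.trans h2.2.1)
  have hsubm : ∀ c : ℤ, dotSet 32 v 0 0 (c, 0, 0) ⊆ minSet := fun c y hy => hy.1
  have hvd : ∀ c : ℤ, c ≠ 32 → v ∉ dotSet 32 v 0 0 (c, 0, 0) := by
    intro c hc h
    have := (mem_dotSet_zero23.mp h).2
    rw [dotInt_self', hv] at this
    exact hc this.symm
  have hvd' : ∀ c : ℤ, c ≠ -32 → -v ∉ dotSet 32 v 0 0 (c, 0, 0) := by
    intro c hc h
    have := (mem_dotSet_zero23.mp h).2
    rw [AddSubgroup.coe_neg, dotInt_neg_right, dotInt_self', hv] at this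
    exact hc this.symm
  have hO0 : ∀ c : ℤ, c ≠ 32 → c ≠ -32 →
      Disjoint ({v, -v} : Set leechLattice) (dotSet 32 v 0 0 (c, 0, 0)) := by
    intro c hc hc'
    rw [Set.disjoint_left]
    rintro y (rfl | rfl)
    · exact hvd c hc
    · exact hvd' c hc'
  have hunion : ∀ (c : ℤ) (n : ℕ), c ≠ -c → n ≠ 0 → (dotSet 32 v 0 0 (c, 0, 0)).ncard = n →
      (dotSet 32 v 0 0 (-c, 0, 0)).ncard = n →
      (dotSet 32 v 0 0 (c, 0, 0) ∪ dotSet 32 v 0 0 (-c, 0, 0)).ncard = n + n := by
    intro c n hc hn h h'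
    rw [Set.ncard_union_eq (hdj c (-c) hc) (hfinc c n hn h) (hfinc (-c) n hn h'), h, h']
  apply SC.prim_of_suborbits (pmStab v) minSet {v, -v}
    ![dotSet 32 v 0 0 (-16, 0, 0) ∪ dotSet 32 v 0 0 (- -16, 0, 0),
      dotSet 32 v 0 0 (-8, 0, 0) ∪ dotSet 32 v 0 0 (- -8, 0, 0),
      dotSet 32 v 0 0 (0, 0, 0) ∪ dotSet 32 v 0 0 (-0, 0, 0)] 2 ![9200, 94208, 93150]
  · intro x hx
    have hx32 : sqNorm (x : GolayPt → ℤ) = 32 := hx
    have := min_cases v hv hx
    simp only [List.mem_cons, List.not_mem_nil, or_false] at this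
    rcases this with h | h | h | h | h | h | h
    · left; left; exact eq_of_dot_eq_sqNorm hv hx32 h
    · left; right
      have h5 : -x = v := by
        apply eq_of_dot_eq_sqNorm hv (by rw [AddSubgroup.coe_neg, sqNorm_neg']; exact hx32)
        rw [AddSubgroup.coe_neg, dotInt_neg_right, h]; norm_num
      show x = -v
      rw [← h5, neg_neg]
    · right; exact ⟨0, Or.inl (mem_dotSet_zero23.mpr ⟨hx32, h⟩)⟩
    · right; exact ⟨0, Or.inr (mem_dotSet_zero23.mpr ⟨hx32, by rw [h]; norm_num⟩)⟩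
    · right; exact ⟨1, Or.inl (mem_dotSet_zero23.mpr ⟨hx32, h⟩)⟩
    · right; exact ⟨1, Or.inr (mem_dotSet_zero23.mpr ⟨hx32, by rw [h]; norm_num⟩)⟩
    · right; exact ⟨2, Or.inl (mem_dotSet_zero23.mpr ⟨hx32, h⟩)⟩
  · rintro y (rfl | rfl)
    · exact hv
    · show sqNorm ((-v : leechLattice) : GolayPt → ℤ) = 32
      rw [AddSubgroup.coe_neg, sqNorm_neg']; exact hv
  · intro i
    fin_cases i
    · exact Set.union_subset (hsubm _) (hsubm _)
    · exact Set.union_subset (hsubm _) (hsubm _)
    · exact Set.union_subset (hsubm _) (hsubm _)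
  · exact Set.toFinite _
  · intro i
    fin_cases i
    · exact (hfinc (-16) 4600 (by norm_num) hA).union (hfinc (- -16) 4600 (by norm_num) hA')
    · exact (hfinc (-8) 47104 (by norm_num) hB).union (hfinc (- -8) 47104 (by norm_num) hB')
    · exact (hfinc 0 93150 (by norm_num) hC).union (hfinc (-0) 93150 (by norm_num) hC)
  · intro i
    fin_cases i
    · exact Set.disjoint_union_right.mpr ⟨hO0 _ (by norm_num) (by norm_num),
        hO0 _ (by norm_num) (by norm_num)⟩
    · exact Set.disjoint_union_right.mpr ⟨hO0 _ (by norm_num) (by norm_num),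
        hO0 _ (by norm_num) (by norm_num)⟩
    · exact Set.disjoint_union_right.mpr ⟨hO0 _ (by norm_num) (by norm_num),
        hO0 _ (by norm_num) (by norm_num)⟩
  · intro i j hij
    fin_cases i <;> fin_cases j <;>
      first
      | exact absurd rfl hij
      | exact Set.disjoint_union_left.mpr
          ⟨Set.disjoint_union_right.mpr ⟨hdj _ _ (by norm_num), hdj _ _ (by norm_num)⟩,
           Set.disjoint_union_right.mpr ⟨hdj _ _ (by norm_num), hdj _ _ (by norm_num)⟩⟩
  · exact Set.ncard_pair hne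
  · intro i
    fin_cases i
    · exact hunion (-16) 4600 (by norm_num) (by norm_num) hA hA'
    · exact hunion (-8) 47104 (by norm_num) (by norm_num) hB hB'
    · show (dotSet 32 v 0 0 (0, 0, 0) ∪ dotSet 32 v 0 0 (-0, 0, 0)).ncard = 93150
      rw [neg_zero, Set.union_self, hC]
  · intro i
    fin_cases i
    · exact trans_pm v hv (-16) C2.transA
    · exact trans_pm v hv (-8) C2.transB
    · exact trans_pm v hv 0 C2.transC
  · decide
  · rintro y (rfl | rfl)
    · exact h1
    · have := h3 negE (negE_mem_pmStab v) v h1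
      rwa [negE_smul] at this
  · exact h2
  · exact h3
  · exact h4

end Prim

theorem co1_simpCard : SimpCard (Co0 ⧸ Subgroup.center Co0) 4157776806543360000 := by
  haveI := finite_co0
  have hπs : Function.Surjective (QuotientGroup.mk' (Subgroup.center Co0)) :=
    QuotientGroup.mk'_surjective _
  have hcardZ : Nat.card (Subgroup.center Co0) = 2 := Cfsg.Agent.S0398.result
  have hcardQ : Nat.card (Co0 ⧸ Subgroup.center Co0) = 4157776806543360000 := by
    have := Subgroup.card_eq_card_quotient_mul_card_subgroup (Subgroup.center Co0)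
    rw [card_co0, hcardZ] at this
    omega
  have hv := xsV_norm
  have hu := u0V_norm
  obtain ⟨eH⟩ := exists_map_equiv (stabilizer Co0 xsV) xsV
    (ne_neg_of_norm xsV (by norm_num) hv) le_rfl
  obtain ⟨eK⟩ := exists_map_equiv (stabilizer Co0 u0V) u0V
    (ne_neg_of_norm u0V (by norm_num) hu) le_rfl
  have hHs := (co2_simpCard xsV hv).congr eH
  have hKs := (co3_simpCard u0V hu).congr eK
  set Hb := (stabilizer Co0 xsV).map (QuotientGroup.mk' (Subgroup.center Co0)) with hHb
  set Kb := (stabilizer Co0 u0V).map (QuotientGroup.mk' (Subgroup.center Co0)) with hKb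
  have hidxH : Hb.index = 98280 := by
    have := Hb.card_mul_index
    rw [hHs.2, hcardQ] at this
    omega
  have hidxK : Kb.index = 8386560 := by
    have := Kb.card_mul_index
    rw [hKs.2, hcardQ] at this
    omega
  have hmax : ∀ M : Subgroup (Co0 ⧸ Subgroup.center Co0), Hb ≤ M → M = Hb ∨ M = ⊤ := by
    intro M hM
    have hle : pmStab xsV ≤ M.comap (QuotientGroup.mk' (Subgroup.center Co0)) := by
      intro g hg
      rw [Subgroup.mem_comap]
      exact hM ((mk_mem_map_iff xsV g).mpr hg)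
    rcases SC.maximal_of_blocks xsV (pmStab xsV) (stab_le_pmStab xsV) (pm_prim xsV hv)
      (M.comap (QuotientGroup.mk' (Subgroup.center Co0))) hle with h | h
    · left
      apply le_antisymm _ hM
      intro m hm
      obtain ⟨g, rfl⟩ := hπs m
      have hg : g ∈ M.comap (QuotientGroup.mk' (Subgroup.center Co0)) := hm
      rw [h] at hg
      exact (mk_mem_map_iff xsV g).mpr hg
    · right
      rw [eq_top_iff]
      intro m _
      obtain ⟨g, rfl⟩ := hπs m
      have hg : g ∈ M.comap (QuotientGroup.mk' (Subgroup.center Co0)) := by rw [h]; trivial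
      exact hg
  have hnn : ¬ Hb.Normal := by
    intro hn
    have hA := card_A xsV hv
    obtain ⟨x, y, hx, hy, hne⟩ := (Set.one_lt_ncard_iff
      (Set.finite_of_ncard_ne_zero (by rw [hA]; norm_num))).mp
      (by rw [hA]; norm_num : 1 < (dotSet 32 xsV 0 0 (-16, 0, 0)).ncard)
    have hx' := mem_dotSet_zero23.mp hx
    have hy' := mem_dotSet_zero23.mp hy
    obtain ⟨h, hh1, hh2⟩ := C2.main_trans (-16) C2.transA xsV x y hv hx'.1 hy'.1 hx'.2 hy'.2
    obtain ⟨g, hg⟩ := (conj_base32 xsV hv).trans (conj_base32 x hx'.1).symm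
    have h1 := hn.conj_mem ((QuotientGroup.mk' (Subgroup.center Co0)) h) ⟨h, hh1, rfl⟩
      ((QuotientGroup.mk' (Subgroup.center Co0)) g⁻¹)
    have h2 : (QuotientGroup.mk' (Subgroup.center Co0)) (g⁻¹ * h * g) ∈ Hb := by
      rw [map_mul, map_mul]
      rw [← map_inv, inv_inv] at h1
      exact h1
    have h3 := (mk_mem_map_iff xsV _).mp h2
    have h4 : (g⁻¹ * h * g) • xsV = g⁻¹ • y := by rw [mul_smul, mul_smul, hg, hh2]
    rcases h3 with h5 | h5
    · rw [h4, inv_smul_eq_iff, hg] at h5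
      exact hne h5.symm
    · rw [h4, inv_smul_eq_iff, co0_smul_neg, hg] at h5
      have h6 := hy'.2
      rw [h5, AddSubgroup.coe_neg, dotInt_neg_right, hx'.2] at h6
      norm_num at h6
  refine ⟨SC.simple_of_max_of_simple Hb Kb hHs.1 hKs.1 hmax hnn ?_ ?_, hcardQ⟩
  · rw [hidxH, hKs.2]; norm_num
  · rw [hidxH, hidxK]; norm_num

end Cfsg.Agent.Helper4.CO.Grp
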