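import Cfsg.Agent.Lib.Helper4.Orb.FrontHS

set_option autoImplicit false
set_option linter.style.haveILetI false
set_option linter.unusedVariables false
set_option linter.unusedSectionVars false

/-! The orbits of the joint stabiliser of a vector `u` of sum of squares 48 and one of its 11178
minimal vectors `x` on these 11178 vectors. -/

namespace Cfsg.Agent.Helper4.CO.Front

open Cfsg Cfsg.Agent.Lib.Helper28 Cfsg.Agent.Helper4.CO

section

variable (u x : leechLattice) (hu : sqNorm (u : GolayPt → ℤ) = 48)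
  (hx : x ∈ dotSet 32 u 0 0 (-16, 0, 0))

theorem coe_neg_add (u x : leechLattice) : ((-(u + x) : leechLattice) : GolayPt → ℤ) =
    -((u : GolayPt → ℤ) + (x : GolayPt → ℤ)) := rfl

include hu hx

theorem w_norm : sqNorm ((-(u + x) : leechLattice) : GolayPt → ℤ) = 48 := by
  have hx' := mem_dotSet_zero23.mp hx
  rw [coe_neg_add, sqNorm_neg', sqNorm_add, hu, hx'.1, hx'.2]; norm_num

theorem w_dot : dotInt (u : GolayPt → ℤ) ((-(u + x) : leechLattice) : GolayPt → ℤ) = -32 := by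
  have hx' := mem_dotSet_zero23.mp hx
  rw [coe_neg_add, dotInt_neg_right, dotInt_add_right, dotInt_self', hu, hx'.2]; norm_num

omit hu hx in
theorem w_dot_y (y : leechLattice) :
    dotInt ((-(u + x) : leechLattice) : GolayPt → ℤ) (y : GolayPt → ℤ) =
      -(dotInt (u : GolayPt → ℤ) (y : GolayPt → ℤ) +
        dotInt (x : GolayPt → ℤ) (y : GolayPt → ℤ)) := by
  rw [coe_neg_add, dotInt_comm', dotInt_neg_right, dotInt_add_right,
    dotInt_comm' _ (u : GolayPt → ℤ), dotInt_comm' _ (x : GolayPt → ℤ)]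

omit hu hx in
theorem stab2_iff (g : Co0) :
    g ∈ MulAction.stabilizer ↥Co0 u ⊓ MulAction.stabilizer ↥Co0 x ↔
      (g • u = u ∧ g • (-(u + x)) = -(u + x) ∧ g • (0 : leechLattice) = 0) := by
  rw [Subgroup.mem_inf, MulAction.mem_stabilizer_iff, MulAction.mem_stabilizer_iff]
  constructor
  · rintro ⟨h1, h2⟩
    exact ⟨h1, by rw [co0_smul_neg, co0_smul_add, h1, h2], co0_smul_zero g⟩
  · rintro ⟨h1, h2, _⟩
    refine ⟨h1, ?_⟩
    rw [co0_smul_neg, co0_smul_add, h1] at h2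
    have h3 : u + g • x = u + x := neg_injective h2
    exact add_left_cancel h3

theorem orbit_eq (c : ℤ)
    (hc : (-16, c, (0 : ℤ)) = (24, -24, 0) ∨ (-16, c, (0 : ℤ)) = (-16, 24, 0) ∨
      (-16, c, (0 : ℤ)) = (-16, 0, 0) ∨ (-16, c, (0 : ℤ)) = (-16, 16, 0) ∨
      (-16, c, (0 : ℤ)) = (-16, 8, 0))
    {y : leechLattice} (hy : y ∈ dotSet 32 u (-(u + x)) 0 (-16, c, 0)) :
    MulAction.orbit ↥(MulAction.stabilizer ↥Co0 u ⊓ MulAction.stabilizer ↥Co0 x) y =
      dotSet 32 u (-(u + x)) 0 (-16, c, 0) := by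
  apply orbit_eq_dotSet _ (stab2_iff u x) _ hy
  intro a ha b hb
  obtain ⟨g, h1, h2, h3⟩ := HS.trans_of u (-(u + x)) hu (w_norm u x hu hx) (w_dot u x hu hx)
    (-16, c, 0) hc ha hb
  exact ⟨g, h1, h2, co0_smul_zero g, h3⟩

theorem s1641 :
    ∃ y₁ ∈ dotSet 32 u 0 0 (-16, 0, 0), ∃ y₂ ∈ dotSet 32 u 0 0 (-16, 0, 0),
    ∃ y₃ ∈ dotSet 32 u 0 0 (-16, 0, 0), ∃ y₄ ∈ dotSet 32 u 0 0 (-16, 0, 0),
      (MulAction.orbit ↥(MulAction.stabilizer ↥Co0 u ⊓ MulAction.stabilizer ↥Co0 x) y₁).ncard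
        = 352 ∧
      (MulAction.orbit ↥(MulAction.stabilizer ↥Co0 u ⊓ MulAction.stabilizer ↥Co0 x) y₂).ncard
        = 1100 ∧
      (MulAction.orbit ↥(MulAction.stabilizer ↥Co0 u ⊓ MulAction.stabilizer ↥Co0 x) y₃).ncard
        = 4125 ∧
      (MulAction.orbit ↥(MulAction.stabilizer ↥Co0 u ⊓ MulAction.stabilizer ↥Co0 x) y₄).ncard
        = 5600 ∧
      dotSet 32 u 0 0 (-16, 0, 0) = {x} ∪
        MulAction.orbit ↥(MulAction.stabilizer ↥Co0 u ⊓ MulAction.stabilizer ↥Co0 x) y₁ ∪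
        MulAction.orbit ↥(MulAction.stabilizer ↥Co0 u ⊓ MulAction.stabilizer ↥Co0 x) y₂ ∪
        MulAction.orbit ↥(MulAction.stabilizer ↥Co0 u ⊓ MulAction.stabilizer ↥Co0 x) y₃ ∪
        MulAction.orbit ↥(MulAction.stabilizer ↥Co0 u ⊓ MulAction.stabilizer ↥Co0 x) y₄ := by
  have hwn := w_norm u x hu hx
  have hwd := w_dot u x hu hx
  have hx' := mem_dotSet_zero23.mp hx
  have hI := HS.card_I u (-(u + x)) hu hwn hwd
  have hJ := HS.card_J u (-(u + x)) hu hwn hwd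
  have hK := HS.card_K u (-(u + x)) hu hwn hwd
  have hL := HS.card_L u (-(u + x)) hu hwn hwd
  have hQ := C3.card_Q u hu
  have hsub : ∀ c : ℤ, ∀ y ∈ dotSet 32 u (-(u + x)) 0 (-16, c, 0),
      y ∈ dotSet 32 u 0 0 (-16, 0, 0) := by
    intro c y hy
    rw [mem_dotSet_zero23]
    exact ⟨hy.1, hy.2.1⟩
  obtain ⟨y₁, hy₁⟩ := Set.nonempty_of_ncard_ne_zero (by rw [hI]; norm_num :
    (dotSet 32 u (-(u + x)) 0 (-16, 24, 0)).ncard ≠ 0)
  obtain ⟨y₂, hy₂⟩ := Set.nonempty_of_ncard_ne_zero (by rw [hJ]; norm_num :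
    (dotSet 32 u (-(u + x)) 0 (-16, 0, 0)).ncard ≠ 0)
  obtain ⟨y₃, hy₃⟩ := Set.nonempty_of_ncard_ne_zero (by rw [hK]; norm_num :
    (dotSet 32 u (-(u + x)) 0 (-16, 16, 0)).ncard ≠ 0)
  obtain ⟨y₄, hy₄⟩ := Set.nonempty_of_ncard_ne_zero (by rw [hL]; norm_num :
    (dotSet 32 u (-(u + x)) 0 (-16, 8, 0)).ncard ≠ 0)
  have o1 := orbit_eq u x hu hx 24 (Or.inr (Or.inl rfl)) hy₁
  have o2 := orbit_eq u x hu hx 0 (Or.inr (Or.inr (Or.inl rfl))) hy₂
  have o3 := orbit_eq u x hu hx 16 (Or.inr (Or.inr (Or.inr (Or.inl rfl)))) hy₃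
  have o4 := orbit_eq u x hu hx 8 (Or.inr (Or.inr (Or.inr (Or.inr rfl)))) hy₄
  refine ⟨y₁, hsub _ y₁ hy₁, y₂, hsub _ y₂ hy₂, y₃, hsub _ y₃ hy₃, y₄, hsub _ y₄ hy₄, ?_, ?_, ?_,
    ?_, ?_⟩
  · rw [o1, hI]
  · rw [o2, hJ]
  · rw [o3, hK]
  · rw [o4, hL]
  · rw [o1, o2, o3, o4]
    have hfin : (dotSet 32 u 0 0 (-16, 0, 0)).Finite :=
      Set.finite_of_ncard_ne_zero (by rw [hQ]; norm_num)
    have hfib : ∀ c : ℤ, {y | y ∈ dotSet 32 u 0 0 (-16, 0, 0) ∧
        dotInt ((-(u + x) : leechLattice) : GolayPt → ℤ) (y : GolayPt → ℤ) = c} =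
        dotSet 32 u (-(u + x)) 0 (-16, c, 0) := by
      intro c
      ext z
      rw [Set.mem_setOf_eq, mem_dotSet_zero23, mem_dotSet_zero3]
      constructor
      · rintro ⟨⟨h1, h2⟩, h3⟩; exact ⟨h1, h2, h3⟩
      · rintro ⟨h1, h2, h3⟩; exact ⟨⟨h1, h2⟩, h3⟩
    have hfx : {y | y ∈ dotSet 32 u 0 0 (-16, 0, 0) ∧
        dotInt ((-(u + x) : leechLattice) : GolayPt → ℤ) (y : GolayPt → ℤ) = -16} = {x} := by
      ext z
      rw [Set.mem_setOf_eq, Set.mem_singleton_iff]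
      constructor
      · rintro ⟨hz, hd⟩
        have hz' := mem_dotSet_zero23.mp hz
        rw [w_dot_y, hz'.2] at hd
        exact eq_of_dot_eq_sqNorm hx'.1 hz'.1 (by omega)
      · rintro rfl
        refine ⟨hx, ?_⟩
        rw [w_dot_y, hx'.2, dotInt_self', hx'.1]; norm_num
    have hval := values_of_ncard (dotSet 32 u 0 0 (-16, 0, 0)) hfin
      (fun y => dotInt ((-(u + x) : leechLattice) : GolayPt → ℤ) (y : GolayPt → ℤ))
      [-16, 24, 0, 16, 8] (by decide)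
      (by
        simp only [List.map_cons, List.map_nil, List.sum_cons, List.sum_nil]
        rw [hfx, hfib 24, hfib 0, hfib 16, hfib 8, Set.ncard_singleton, hI, hJ, hK, hL, hQ]
        norm_num)
    ext z
    simp only [Set.mem_union, Set.mem_singleton_iff]
    constructor
    · intro hz
      have hz' := mem_dotSet_zero23.mp hz
      have h := hval z hz
      simp only [List.mem_cons, List.not_mem_nil, or_false] at h
      have hzf : ∀ c : ℤ, dotInt ((-(u + x) : leechLattice) : GolayPt → ℤ) (z : GolayPt → ℤ) = c →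
          z ∈ dotSet 32 u (-(u + x)) 0 (-16, c, 0) := by
        intro c hc
        rw [← hfib c]; exact ⟨hz, hc⟩
      rcases h with h | h | h | h | h
      · left; left; left; left
        have : z ∈ ({x} : Set leechLattice) := by rw [← hfx]; exact ⟨hz, h⟩
        exact this
      · left; left; left; right; exact hzf 24 h
      · left; left; right; exact hzf 0 h
      · left; right; exact hzf 16 h
      · right; exact hzf 8 h
    · rintro ((((h | h) | h) | h) | h)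
      · rw [h]; exact hx
      · exact hsub _ z h
      · exact hsub _ z h
      · exact hsub _ z h
      · exact hsub _ z h

end

end Cfsg.Agent.Helper4.CO.Front
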