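import Cfsg.Agent.Lib.Helper4.Orb.GrpMcL
import Cfsg.Agent.Lib.Helper4.Orb.FrontHS2

set_option autoImplicit false
set_option linter.style.haveILetI false
set_option linter.unusedVariables false
set_option linter.unusedSectionVars false

/-! The stabiliser of a vector of sum of squares 48 is simple of order 495766656000. -/

namespace Cfsg.Agent.Helper4.CO.Grp

open Cfsg Cfsg.Agent.Lib.Helper4 Cfsg.Agent.Lib.Helper28 Cfsg.Agent.Helper4.CO
  Cfsg.Agent.Helper4.LC MulAction

theorem stab_ux_eq (u x : leechLattice) :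
    stabilizer Co0 u ⊓ stabilizer Co0 x = stabilizer Co0 u ⊓ stabilizer Co0 (-(u + x)) := by
  ext g
  rw [Front.stab2_iff u x g]
  simp only [Subgroup.mem_inf, mem_stabilizer_iff, co0_smul_zero, and_true]

/-- the values of the inner product with `-(u + x)` on the 11178 vectors -/
theorem q_cases (u x : leechLattice) (hu : sqNorm (u : GolayPt → ℤ) = 48)
    (hx : x ∈ dotSet 32 u 0 0 (-16, 0, 0)) {z : leechLattice}
    (hz : z ∈ dotSet 32 u 0 0 (-16, 0, 0)) (hzx : z ≠ x) :
    dotInt ((-(u + x) : leechLattice) : GolayPt → ℤ) (z : GolayPt → ℤ) ∈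
      ([24, 0, 16, 8] : List ℤ) := by
  have hwn := Front.w_norm u x hu hx
  have hwd := Front.w_dot u x hu hx
  have hx' := mem_dotSet_zero23.mp hx
  have hI := HS.card_I u (-(u + x)) hu hwn hwd
  have hJ := HS.card_J u (-(u + x)) hu hwn hwd
  have hK := HS.card_K u (-(u + x)) hu hwn hwd
  have hL := HS.card_L u (-(u + x)) hu hwn hwd
  have hQ := C3.card_Q u hu
  have hfin : (dotSet 32 u 0 0 (-16, 0, 0)).Finite :=
    Set.finite_of_ncard_ne_zero (by rw [hQ]; norm_num)
  have hfib : ∀ c : ℤ, {y | y ∈ dotSet 32 u 0 0 (-16, 0, 0) ∧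
      dotInt ((-(u + x) : leechLattice) : GolayPt → ℤ) (y : GolayPt → ℤ) = c} =
      dotSet 32 u (-(u + x)) 0 (-16, c, 0) := by
    intro c
    ext z
    rw [Set.mem_setOf_eq, mem_dotSet_zero23, mem_dotSet_zero3]
    constructor
    · rintro ⟨⟨h1, h2⟩, h3⟩; exact ⟨h1, h2, h3⟩
    · rintro ⟨h1, h2, h3⟩; exact ⟨⟨h1, h2⟩, h3⟩
  have hfx : {y | y ∈ dotSet 32 u 0 0 (-16, 0, 0) ∧
      dotInt ((-(u + x) : leechLattice) : GolayPt → ℤ) (y : GolayPt → ℤ) = -16} = {x} := by
    ext z
    rw [Set.mem_setOf_eq, Set.mem_singleton_iff]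
    constructor
    · rintro ⟨hz, hd⟩
      have hz' := mem_dotSet_zero23.mp hz
      rw [Front.w_dot_y, hz'.2] at hd
      exact eq_of_dot_eq_sqNorm hx'.1 hz'.1 (by omega)
    · rintro rfl
      refine ⟨hx, ?_⟩
      rw [Front.w_dot_y, hx'.2, dotInt_self', hx'.1]; norm_num
  have hval := values_of_ncard (dotSet 32 u 0 0 (-16, 0, 0)) hfin
    (fun y => dotInt ((-(u + x) : leechLattice) : GolayPt → ℤ) (y : GolayPt → ℤ))
    [-16, 24, 0, 16, 8] (by decide)
    (by
      simp only [List.map_cons, List.map_nil, List.sum_cons, List.sum_nil]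
      rw [hfx, hfib 24, hfib 0, hfib 16, hfib 8, Set.ncard_singleton, hI, hJ, hK, hL, hQ]
      norm_num) z hz
  rcases List.mem_cons.mp hval with h | h
  · exfalso
    apply hzx
    have : z ∈ ({x} : Set leechLattice) := by rw [← hfx]; exact ⟨hz, h⟩
    exact this
  · exact h

theorem co3_simpCard (u : leechLattice) (hu : sqNorm (u : GolayPt → ℤ) = 48) :
    SimpCard ↥(stabilizer Co0 u) 495766656000 := by
  have hQ := C3.card_Q u hu
  have hP := C3.card_P u hu
  obtain ⟨x, hx⟩ := Set.nonempty_of_ncard_ne_zero (by rw [hQ]; norm_num :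
    (dotSet 32 u 0 0 (-16, 0, 0)).ncard ≠ 0)
  obtain ⟨v, hv⟩ := Set.nonempty_of_ncard_ne_zero (by rw [hP]; norm_num :
    (dotSet 32 u 0 0 (24, 0, 0)).ncard ≠ 0)
  have hx' := mem_dotSet_zero23.mp hx
  have hwn := Front.w_norm u x hu hx
  have hwd := Front.w_dot u x hu hx
  set w : leechLattice := -(u + x) with hw
  have hI := HS.card_I u w hu hwn hwd
  have hJ := HS.card_J u w hu hwn hwd
  have hK := HS.card_K u w hu hwn hwd
  have hL := HS.card_L u w hu hwn hwd
  set S : Subgroup Co0 := stabilizer Co0 u with hS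
  have hSmem : ∀ g : Co0, g ∈ S ↔ (g • u = u ∧ g • (0 : leechLattice) = 0 ∧
      g • (0 : leechLattice) = 0) := by
    intro g
    rw [hS, mem_stabilizer_iff]
    simp only [co0_smul_zero, and_true]
  have horb : orbit ↥S x = dotSet 32 u 0 0 (-16, 0, 0) :=
    orbit_eq_dotSet S hSmem
      (fun y hy y' hy' => by
        obtain ⟨g, h1, h2⟩ := C3.trans_Q u hu hy hy'
        exact ⟨g, h1, co0_smul_zero g, co0_smul_zero g, h2⟩) hx
  have horbP : orbit ↥S v = dotSet 32 u 0 0 (24, 0, 0) :=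
    orbit_eq_dotSet S hSmem
      (fun y hy y' hy' => by
        obtain ⟨g, h1, h2⟩ := C3.trans_P u hu hy hy'
        exact ⟨g, h1, co0_smul_zero g, co0_smul_zero g, h2⟩) hv
  have hhs : SimpCard ↥(S ⊓ stabilizer Co0 x) 44352000 := by
    rw [hS, stab_ux_eq]
    exact hs_simpCard u w hu hwn hwd
  have hmcl : SimpCard ↥(S ⊓ stabilizer Co0 v) 898128000 := mcl_simpCard u v hu hv
  have hcard : Nat.card ↥S = 495766656000 := by
    rw [card_eq_orbit_mul S x, horb, hQ, hhs.2]
  haveI : Finite ↥S := Nat.finite_of_card_ne_zero (by rw [hcard]; norm_num)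
  have hHs : IsSimpleGroup ↥(stabilizer ↥S x) := (hhs.congr (stabEquiv S x).symm).1
  have hKs := hmcl.congr (stabEquiv S v).symm
  have hidx : (stabilizer ↥S x).index = 11178 := by rw [index_stabilizer, horb, hQ]
  have hidxP : (stabilizer ↥S v).index = 552 := by rw [index_stabilizer, horbP, hP]
  have hsub : ∀ c : ℤ, dotSet 32 u w 0 (-16, c, 0) ⊆ dotSet 32 u 0 0 (-16, 0, 0) := by
    intro c y hy
    exact mem_dotSet_zero23.mpr ⟨hy.1, hy.2.1⟩
  have hmk : ∀ g : Co0, g • u = u → g • w = w →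
      ∃ h : ↥S, h ∈ stabilizer ↥S x ∧ ∀ y : leechLattice, h • y = g • y := by
    intro g h1 h2
    have hgx : g • x = x := by
      have := (Front.stab2_iff u x g).mpr ⟨h1, h2, co0_smul_zero g⟩
      exact (Subgroup.mem_inf.mp this).2
    exact ⟨⟨g, h1⟩, hgx, fun y => rfl⟩
  have hxw : dotInt (w : GolayPt → ℤ) (x : GolayPt → ℤ) = -16 := by
    rw [hw, Front.w_dot_y, hx'.2, dotInt_self', hx'.1]; norm_num
  have hdj : ∀ c c' : ℤ, c ≠ c' → ∀ y : leechLattice, y ∈ dotSet 32 u w 0 (-16, c, 0) →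
      y ∉ dotSet 32 u w 0 (-16, c', 0) := by
    intro c c' hcc y h1 h2
    exact hcc (h1.2.2.1.symm.trans h2.2.2.1)
  have htr : ∀ c : ℤ, ((-16, c, (0 : ℤ)) = (24, -24, 0) ∨ (-16, c, (0 : ℤ)) = (-16, 24, 0) ∨
      (-16, c, (0 : ℤ)) = (-16, 0, 0) ∨ (-16, c, (0 : ℤ)) = (-16, 16, 0) ∨
      (-16, c, (0 : ℤ)) = (-16, 8, 0)) → ∀ y ∈ dotSet 32 u w 0 (-16, c, 0),
      ∀ y' ∈ dotSet 32 u w 0 (-16, c, 0), ∃ h ∈ stabilizer ↥S x, h • y = y' := by
    intro c hc y hy y' hy'
    obtain ⟨g, h1, h2, h3⟩ := HS.trans_of u w hu hwn hwd (-16, c, 0) hc hy hy'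
    obtain ⟨h, hh, hact⟩ := hmk g h1 h2
    exact ⟨h, hh, by rw [hact]; exact h3⟩
  have hmax := SC.maximal_of_suborbits (G := ↥S) x
    ![dotSet 32 u w 0 (-16, 24, 0), dotSet 32 u w 0 (-16, 0, 0), dotSet 32 u w 0 (-16, 16, 0),
      dotSet 32 u w 0 (-16, 8, 0)]
    ![352, 1100, 4125, 5600]
    (by
      rw [horb]
      intro y hy
      by_cases hyx : y = x
      · exact Or.inl hyx
      · right
        have hy' := mem_dotSet_zero23.mp hy
        have := q_cases u x hu hx hy hyx
        simp only [List.mem_cons, List.not_mem_nil, or_false] at this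
        rcases this with h | h | h | h
        · exact ⟨0, hy'.1, hy'.2, h, dotInt_zero_left _⟩
        · exact ⟨1, hy'.1, hy'.2, h, dotInt_zero_left _⟩
        · exact ⟨2, hy'.1, hy'.2, h, dotInt_zero_left _⟩
        · exact ⟨3, hy'.1, hy'.2, h, dotInt_zero_left _⟩)
    (by
      rw [horb]
      intro i
      fin_cases i
      · exact hsub 24
      · exact hsub 0
      · exact hsub 16
      · exact hsub 8)
    (by
      intro i
      fin_cases i
      · exact Set.finite_of_ncard_ne_zero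
          (by show (dotSet 32 u w 0 (-16, 24, 0)).ncard ≠ 0; rw [hI]; norm_num)
      · exact Set.finite_of_ncard_ne_zero
          (by show (dotSet 32 u w 0 (-16, 0, 0)).ncard ≠ 0; rw [hJ]; norm_num)
      · exact Set.finite_of_ncard_ne_zero
          (by show (dotSet 32 u w 0 (-16, 16, 0)).ncard ≠ 0; rw [hK]; norm_num)
      · exact Set.finite_of_ncard_ne_zero
          (by show (dotSet 32 u w 0 (-16, 8, 0)).ncard ≠ 0; rw [hL]; norm_num))
    (by
      intro i
      fin_cases i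
      · intro h
        have h4 : dotInt (w : GolayPt → ℤ) (x : GolayPt → ℤ) = 24 := h.2.2.1
        omega
      · intro h
        have h4 : dotInt (w : GolayPt → ℤ) (x : GolayPt → ℤ) = 0 := h.2.2.1
        omega
      · intro h
        have h4 : dotInt (w : GolayPt → ℤ) (x : GolayPt → ℤ) = 16 := h.2.2.1
        omega
      · intro h
        have h4 : dotInt (w : GolayPt → ℤ) (x : GolayPt → ℤ) = 8 := h.2.2.1
        omega)
    (by
      intro i j hij
      rw [Set.disjoint_left]
      fin_cases i <;> fin_cases j <;>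
        first | exact absurd rfl hij | exact hdj _ _ (by norm_num))
    (by
      intro i
      fin_cases i
      · exact hI
      · exact hJ
      · exact hK
      · exact hL)
    (by
      intro i
      fin_cases i
      · exact htr 24 (Or.inr (Or.inl rfl))
      · exact htr 0 (Or.inr (Or.inr (Or.inl rfl)))
      · exact htr 16 (Or.inr (Or.inr (Or.inr (Or.inl rfl))))
      · exact htr 8 (Or.inr (Or.inr (Or.inr (Or.inr rfl)))))
    (by decide)
  have hnn : ¬ (stabilizer ↥S x).Normal := by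
    obtain ⟨y, y', hy, hy', hne⟩ := (Set.one_lt_ncard_iff
      (Set.finite_of_ncard_ne_zero (by rw [hI]; norm_num))).mp
      (by rw [hI]; norm_num : 1 < (dotSet 32 u w 0 (-16, 24, 0)).ncard)
    obtain ⟨h, hh, hact⟩ := htr 24 (Or.inr (Or.inl rfl)) y hy y' hy'
    apply SC.not_normal_of_moves x h hh y (by rw [horb]; exact hsub 24 hy)
    rw [hact]
    exact fun h => hne h.symm
  refine ⟨SC.simple_of_max_of_simple (stabilizer ↥S x) (stabilizer ↥S v) hHs hKs.1 hmax hnn ?_ ?_,
    hcard⟩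
  · rw [hidx, hKs.2]; norm_num
  · rw [hidx, hidxP]; norm_num

end Cfsg.Agent.Helper4.CO.Grp
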