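import Cfsg.Agent.Lib.Helper4.Orb.FrontU43
import Cfsg.Agent.Lib.Helper4.Orb.HS.Extra
import Cfsg.Agent.Lib.Helper4.Orb.HSx.Main

set_option autoImplicit false
set_option linter.style.haveILetI false
set_option linter.unusedVariables false
set_option linter.unusedSectionVars false

/-! The Higman–Sims configuration, statements in final form. -/

namespace Cfsg.Agent.Helper4.CO.Front

open Cfsg Cfsg.Agent.Lib.Helper28 Cfsg.Agent.Helper4.CO

theorem setH_eq (v w : leechLattice) :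
    {x : leechLattice | sqNorm (x : GolayPt → ℤ) = 32 ∧
      dotInt (v : GolayPt → ℤ) (x : GolayPt → ℤ) = 24 ∧
      dotInt (w : GolayPt → ℤ) (x : GolayPt → ℤ) = -24} = dotSet 32 v w 0 (24, -24, 0) := by
  ext x
  rw [mem_dotSet_zero3, Set.mem_setOf_eq]

section

variable (v w : leechLattice) (hv : sqNorm (v : GolayPt → ℤ) = 48)
  (hw : sqNorm (w : GolayPt → ℤ) = 48)
  (hvw : dotInt (v : GolayPt → ℤ) (w : GolayPt → ℤ) = -32)

include hv hw hvw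

theorem s1583 :
    {x : leechLattice | sqNorm (x : GolayPt → ℤ) = 32 ∧
      dotInt (v : GolayPt → ℤ) (x : GolayPt → ℤ) = 24 ∧
      dotInt (w : GolayPt → ℤ) (x : GolayPt → ℤ) = -24}.ncard = 100 ∧
    ∀ x ∈ {x : leechLattice | sqNorm (x : GolayPt → ℤ) = 32 ∧
      dotInt (v : GolayPt → ℤ) (x : GolayPt → ℤ) = 24 ∧
      dotInt (w : GolayPt → ℤ) (x : GolayPt → ℤ) = -24},
    ∀ x' ∈ {x : leechLattice | sqNorm (x : GolayPt → ℤ) = 32 ∧
      dotInt (v : GolayPt → ℤ) (x : GolayPt → ℤ) = 24 ∧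
      dotInt (w : GolayPt → ℤ) (x : GolayPt → ℤ) = -24},
      ∃ g : Co0, g • v = v ∧ g • w = w ∧ g • x = x' := by
  rw [setH_eq v w]
  exact ⟨HS.card_H v w hv hw hvw,
    fun x hx x' hx' => HS.trans_of v w hv hw hvw _ (Or.inl rfl) hx hx'⟩

theorem s1642 :
    ∃ g : Co0, g • v = v ∧ g • w = w ∧ orderOf g = 2 ∧
      ∀ x ∈ {x : leechLattice | sqNorm (x : GolayPt → ℤ) = 32 ∧
        dotInt (v : GolayPt → ℤ) (x : GolayPt → ℤ) = 24 ∧
        dotInt (w : GolayPt → ℤ) (x : GolayPt → ℤ) = -24}, g • x ≠ x := by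
  rw [setH_eq v w]
  exact HS.invol v w hv hw hvw

theorem s1584 (x : leechLattice)
    (hx : x ∈ {x : leechLattice | sqNorm (x : GolayPt → ℤ) = 32 ∧
      dotInt (v : GolayPt → ℤ) (x : GolayPt → ℤ) = 24 ∧
      dotInt (w : GolayPt → ℤ) (x : GolayPt → ℤ) = -24}) :
    {y : leechLattice | y ∈ {x : leechLattice | sqNorm (x : GolayPt → ℤ) = 32 ∧
      dotInt (v : GolayPt → ℤ) (x : GolayPt → ℤ) = 24 ∧
      dotInt (w : GolayPt → ℤ) (x : GolayPt → ℤ) = -24} ∧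
      dotInt (x : GolayPt → ℤ) (y : GolayPt → ℤ) = 8}.ncard = 22 ∧
    {y : leechLattice | y ∈ {x : leechLattice | sqNorm (x : GolayPt → ℤ) = 32 ∧
      dotInt (v : GolayPt → ℤ) (x : GolayPt → ℤ) = 24 ∧
      dotInt (w : GolayPt → ℤ) (x : GolayPt → ℤ) = -24} ∧ y ≠ x ∧
      dotInt (x : GolayPt → ℤ) (y : GolayPt → ℤ) ≠ 8}.ncard = 77 ∧
    ∀ y ∈ {x : leechLattice | sqNorm (x : GolayPt → ℤ) = 32 ∧
      dotInt (v : GolayPt → ℤ) (x : GolayPt → ℤ) = 24 ∧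
      dotInt (w : GolayPt → ℤ) (x : GolayPt → ℤ) = -24},
    ∀ y' ∈ {x : leechLattice | sqNorm (x : GolayPt → ℤ) = 32 ∧
      dotInt (v : GolayPt → ℤ) (x : GolayPt → ℤ) = 24 ∧
      dotInt (w : GolayPt → ℤ) (x : GolayPt → ℤ) = -24},
      y ≠ x → y' ≠ x →
      (dotInt (x : GolayPt → ℤ) (y : GolayPt → ℤ) = 8 ↔
        dotInt (x : GolayPt → ℤ) (y' : GolayPt → ℤ) = 8) →
      ∃ g : Co0, g • v = v ∧ g • w = w ∧ g • x = x ∧ g • y = y' := by
  rw [setH_eq v w] at hx ⊢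
  have hx' := mem_dotSet_zero3.mp hx
  have hD := HSx.card_D v w x hv hw hvw hx
  have hE := HSx.card_E v w x hv hw hvw hx
  have hdots : ∀ y ∈ dotSet 32 v w 0 (24, -24, 0), y ≠ x →
      dotInt (x : GolayPt → ℤ) (y : GolayPt → ℤ) = 8 ∨
        dotInt (x : GolayPt → ℤ) (y : GolayPt → ℤ) = 16 :=
    fun y hy hyx => dots_of_card v w x 24 (-24) 100 22 77 hx (HS.card_H v w hv hw hvw) hD hE
      (by norm_num) hy hyx
  have e8 : {y : leechLattice | y ∈ dotSet 32 v w 0 (24, -24, 0) ∧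
      dotInt (x : GolayPt → ℤ) (y : GolayPt → ℤ) = 8} = dotSet 32 v w x (24, -24, 8) := by
    ext z
    rw [Set.mem_setOf_eq, mem_dotSet_zero3]
    constructor
    · rintro ⟨⟨h1, h2, h3⟩, h4⟩; exact ⟨h1, h2, h3, h4⟩
    · rintro ⟨h1, h2, h3, h4⟩; exact ⟨⟨h1, h2, h3⟩, h4⟩
  have e16 : {y : leechLattice | y ∈ dotSet 32 v w 0 (24, -24, 0) ∧ y ≠ x ∧
      dotInt (x : GolayPt → ℤ) (y : GolayPt → ℤ) ≠ 8} = dotSet 32 v w x (24, -24, 16) := by
    ext z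
    rw [Set.mem_setOf_eq]
    constructor
    · rintro ⟨hz, hzx, h4⟩
      have hz' := mem_dotSet_zero3.mp hz
      rcases hdots z hz hzx with h | h
      · exact absurd h h4
      · exact ⟨hz'.1, hz'.2.1, hz'.2.2, h⟩
    · rintro ⟨h1, h2, h3, h4⟩
      refine ⟨mem_dotSet_zero3.mpr ⟨h1, h2, h3⟩, ?_, ?_⟩
      · rintro rfl
        have h4' : dotInt (z : GolayPt → ℤ) (z : GolayPt → ℤ) = 16 := h4
        rw [dotInt_self', hx'.1] at h4'
        omega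
      · intro h8
        have h4' : dotInt (x : GolayPt → ℤ) (z : GolayPt → ℤ) = 16 := h4
        omega
  rw [e8, e16]
  refine ⟨hD, hE, ?_⟩
  intro y hy y' hy' hyx hyx' hiff
  have hy0 := mem_dotSet_zero3.mp hy
  have hy0' := mem_dotSet_zero3.mp hy'
  rcases hdots y hy hyx with h | h
  · exact HSx.trans_D v w x hv hw hvw hx ⟨hy0.1, hy0.2.1, hy0.2.2, h⟩
      ⟨hy0'.1, hy0'.2.1, hy0'.2.2, hiff.mp h⟩
  · rcases hdots y' hy' hyx' with h' | h'
    · have := hiff.mpr h'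
      omega
    · exact HSx.trans_E v w x hv hw hvw hx ⟨hy0.1, hy0.2.1, hy0.2.2, h⟩
        ⟨hy0'.1, hy0'.2.1, hy0'.2.2, h'⟩

end

end Cfsg.Agent.Helper4.CO.Front
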