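import Cfsg.Agent.Lib.Helper4.CoGrp
import Cfsg.Agent.Lib.Helper4.CoM22
import Cfsg.Agent.Lib.Helper4.Orb.FrontHS

set_option autoImplicit false
set_option linter.style.haveILetI false
set_option linter.unusedVariables false
set_option linter.unusedSectionVars false

/-! The joint stabiliser of two vectors of sum of squares 48 with inner product `-32` is simple of
order 44352000. -/

namespace Cfsg.Agent.Helper4.CO.Grp

open Cfsg Cfsg.Agent.Lib.Helper4 Cfsg.Agent.Lib.Helper28 Cfsg.Agent.Helper4.CO MulAction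

/-- the three base vectors `(5,1,…)`, `(-1,-5,-1,…)`, `(4,4,0,…)` -/
def u0V : leechLattice := mkL HSx.anc0 HSx.anc0_in
def w0V : leechLattice := mkL HSx.anc1 HSx.anc1_in
def v1V : leechLattice := mkL HSx.anc2 HSx.anc2_in
def xsV : leechLattice := u0V + w0V

set_option maxRecDepth 100000 in
theorem u0V_coord : ∀ i, (u0V : GolayPt → ℤ) i = if i = some 0 then 5 else 1 := by
  decide +kernel

set_option maxRecDepth 100000 in
theorem v1V_coord : ∀ i, (v1V : GolayPt → ℤ) i =
    if i = some 0 then 4 else if i = some 1 then 4 else 0 := by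
  decide +kernel

set_option maxRecDepth 100000 in
theorem xsV_coord : ∀ i, (xsV : GolayPt → ℤ) i =
    if i = some 0 then 4 else if i = some 1 then -4 else 0 := by
  intro i
  show (u0V : GolayPt → ℤ) i + (w0V : GolayPt → ℤ) i = _
  revert i
  decide +kernel

theorem stab_base_eq : stabilizer Co0 u0V ⊓ stabilizer Co0 w0V ⊓ stabilizer Co0 v1V =
    stabilizer Co0 u0V ⊓ stabilizer Co0 v1V ⊓ stabilizer Co0 xsV := by
  ext g
  rw [mem_stab3, mem_stab3]
  constructor
  · rintro ⟨h1, h2, h3⟩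
    refine ⟨h1, h3, ?_⟩
    show g • (u0V + w0V) = u0V + w0V
    rw [co0_smul_add, h1, h2]
  · rintro ⟨h1, h2, h3⟩
    refine ⟨h1, ?_, h2⟩
    have h4 : g • (u0V + w0V) = u0V + w0V := h3
    rw [co0_smul_add, h1] at h4
    exact add_left_cancel h4

theorem k3_base : SimpCard ↥(stabilizer Co0 u0V ⊓ stabilizer Co0 w0V ⊓ stabilizer Co0 v1V)
    443520 := by
  rw [stab_base_eq]
  exact ⟨simple_k3 (some 0) (some 1) (by decide) u0V v1V xsV u0V_coord v1V_coord xsV_coord,
    card_k3 (some 0) (some 1) (by decide) u0V v1V xsV u0V_coord v1V_coord xsV_coord⟩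

section

variable (v w : leechLattice) (hv : sqNorm (v : GolayPt → ℤ) = 48)
  (hw : sqNorm (w : GolayPt → ℤ) = 48)
  (hvw : dotInt (v : GolayPt → ℤ) (w : GolayPt → ℤ) = -32)

include hv hw hvw

theorem k3_HS (x : leechLattice) (hx : x ∈ dotSet 32 v w 0 (24, -24, 0)) :
    SimpCard ↥(stabilizer Co0 v ⊓ stabilizer Co0 w ⊓ stabilizer Co0 x) 443520 := by
  obtain ⟨h, hb⟩ := HSx.exists_based v w x hv hw hvw hx
  have e := conjStab3 h v w x
  have h1 : h • v = u0V := Subtype.ext hb.1
  have h2 : h • w = w0V := Subtype.ext hb.2.1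
  have h3 : h • x = v1V := Subtype.ext hb.2.2
  rw [h1, h2, h3] at e
  exact k3_base.congr e.symm

theorem hs_simpCard : SimpCard ↥(stabilizer Co0 v ⊓ stabilizer Co0 w) 44352000 := by
  have hH := HS.card_H v w hv hw hvw
  obtain ⟨x, hx⟩ := Set.nonempty_of_ncard_ne_zero (by rw [hH]; norm_num :
    (dotSet 32 v w 0 (24, -24, 0)).ncard ≠ 0)
  have hx' := mem_dotSet_zero3.mp hx
  set S : Subgroup Co0 := stabilizer Co0 v ⊓ stabilizer Co0 w with hS
  have horb : orbit ↥S x = dotSet 32 v w 0 (24, -24, 0) :=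
    orbit_eq_dotSet S (mem_stab2 v w)
      (fun y hy y' hy' => by
        obtain ⟨g, h1, h2, h3⟩ := HS.trans_of v w hv hw hvw _ (Or.inl rfl) hy hy'
        exact ⟨g, h1, h2, co0_smul_zero g, h3⟩) hx
  have hk3 := k3_HS v w hv hw hvw x hx
  have hcard : Nat.card ↥S = 44352000 := by
    rw [card_eq_orbit_mul S x, horb, hH, hk3.2]
  haveI : Finite ↥S := Nat.finite_of_card_ne_zero (by rw [hcard]; norm_num)
  have hHs : IsSimpleGroup ↥(stabilizer ↥S x) := (hk3.congr (stabEquiv S x).symm).1
  have hidx : (stabilizer ↥S x).index = 100 := by rw [index_stabilizer, horb, hH]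
  have hD := HSx.card_D v w x hv hw hvw hx
  have hE := HSx.card_E v w x hv hw hvw hx
  have hsubD : ∀ c : ℤ, dotSet 32 v w x (24, -24, c) ⊆ dotSet 32 v w 0 (24, -24, 0) := by
    intro c y hy
    exact mem_dotSet_zero3.mpr ⟨hy.1, hy.2.1, hy.2.2.1⟩
  have hmk : ∀ g : Co0, g • v = v → g • w = w → g • x = x → ∃ h : ↥S, h ∈ stabilizer ↥S x ∧
      ∀ y : leechLattice, h • y = g • y := by
    intro g h1 h2 h3
    exact ⟨⟨g, (mem_stab2 v w g).mpr ⟨h1, h2, co0_smul_zero g⟩⟩, h3, fun y => rfl⟩
  have hmax := SC.maximal_of_suborbits (G := ↥S) x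
    ![dotSet 32 v w x (24, -24, 8), dotSet 32 v w x (24, -24, 16)] ![22, 77]
    (by
      rw [horb]
      intro y hy
      by_cases hyx : y = x
      · exact Or.inl hyx
      · right
        have hy' := mem_dotSet_zero3.mp hy
        rcases Front.dots_of_card v w x 24 (-24) 100 22 77 hx hH hD hE (by norm_num) hy hyx
          with h | h
        · exact ⟨0, hy'.1, hy'.2.1, hy'.2.2, h⟩
        · exact ⟨1, hy'.1, hy'.2.1, hy'.2.2, h⟩)
    (by
      rw [horb]
      intro i
      fin_cases i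
      · exact hsubD 8
      · exact hsubD 16)
    (by
      intro i
      fin_cases i
      · exact Set.finite_of_ncard_ne_zero (by show (dotSet 32 v w x (24, -24, 8)).ncard ≠ 0; rw [hD]; norm_num)
      · exact Set.finite_of_ncard_ne_zero (by show (dotSet 32 v w x (24, -24, 16)).ncard ≠ 0; rw [hE]; norm_num))
    (by
      intro i
      fin_cases i
      · intro h
        have h4 : dotInt (x : GolayPt → ℤ) (x : GolayPt → ℤ) = 8 := h.2.2.2
        rw [dotInt_self', hx'.1] at h4
        omega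
      · intro h
        have h4 : dotInt (x : GolayPt → ℤ) (x : GolayPt → ℤ) = 16 := h.2.2.2
        rw [dotInt_self', hx'.1] at h4
        omega)
    (by
      intro i j hij
      rw [Set.disjoint_left]
      fin_cases i <;> fin_cases j
      · exact absurd rfl hij
      · intro y h1 h2
        have h3 : dotInt (x : GolayPt → ℤ) (y : GolayPt → ℤ) = 8 := h1.2.2.2
        have h4 : dotInt (x : GolayPt → ℤ) (y : GolayPt → ℤ) = 16 := h2.2.2.2
        omega
      · intro y h1 h2
        have h3 : dotInt (x : GolayPt → ℤ) (y : GolayPt → ℤ) = 16 := h1.2.2.2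
        have h4 : dotInt (x : GolayPt → ℤ) (y : GolayPt → ℤ) = 8 := h2.2.2.2
        omega
      · exact absurd rfl hij)
    (by
      intro i
      fin_cases i
      · exact hD
      · exact hE)
    (by
      intro i
      fin_cases i
      · intro y hy y' hy'
        obtain ⟨g, h1, h2, h3, h4⟩ := HSx.trans_D v w x hv hw hvw hx hy hy'
        obtain ⟨h, hh, hact⟩ := hmk g h1 h2 h3
        exact ⟨h, hh, by rw [hact]; exact h4⟩
      · intro y hy y' hy'
        obtain ⟨g, h1, h2, h3, h4⟩ := HSx.trans_E v w x hv hw hvw hx hy hy'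
        obtain ⟨h, hh, hact⟩ := hmk g h1 h2 h3
        exact ⟨h, hh, by rw [hact]; exact h4⟩)
    (by decide)
  have hnn : ¬ (stabilizer ↥S x).Normal := by
    obtain ⟨y, y', hy, hy', hne⟩ := (Set.one_lt_ncard_iff
      (Set.finite_of_ncard_ne_zero (by rw [hD]; norm_num))).mp
      (by rw [hD]; norm_num : 1 < (dotSet 32 v w x (24, -24, 8)).ncard)
    obtain ⟨g, h1, h2, h3, h4⟩ := HSx.trans_D v w x hv hw hvw hx hy hy'
    obtain ⟨h, hh, hact⟩ := hmk g h1 h2 h3
    apply SC.not_normal_of_moves x h hh y (by rw [horb]; exact hsubD 8 hy)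
    rw [hact, h4]
    exact fun h => hne h.symm
  haveI : Fact (Nat.Prime 5) := ⟨by norm_num⟩
  refine ⟨SC.simple_of_max_of_sylow (stabilizer ↥S x) hHs hmax hnn 5 ?_ ?_ ?_, hcard⟩
  · rw [hidx]; norm_num
  · rw [hidx]
    intro k hk
    have h2 : 2 ∣ 5 ^ k := by rw [← hk]; norm_num
    have := Nat.Prime.dvd_of_dvd_pow Nat.prime_two h2
    omega
  · rw [hidx]
    intro d hd
    have hmem : d ∈ Nat.divisors 100 := Nat.mem_divisors.mpr ⟨hd, by norm_num⟩
    have key : ∀ d ∈ Nat.divisors 100, d % 5 = 1 → d = 1 := by decide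
    exact key d hmem

end

end Cfsg.Agent.Helper4.CO.Grp
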