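import Cfsg.Agent.Lib.Helper4.Orb.GrpHS

set_option autoImplicit false
set_option linter.style.haveILetI false
set_option linter.unusedVariables false
set_option linter.unusedSectionVars false

/-! The joint stabiliser of a vector `u` of sum of squares 48 and a minimal vector `v` with
`u - v` minimal is simple of order 898128000. -/

namespace Cfsg.Agent.Helper4.CO.Grp

open Cfsg Cfsg.Agent.Lib.Helper4 Cfsg.Agent.Lib.Helper28 Cfsg.Agent.Helper4.CO Cfsg.Agent.Helper4.LC MulAction

/-- the sets cut out of a set of vectors of sum of squares 32 by the inner product with one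
of its elements exhaust it, when the sizes add up -/
theorem dots_of_cards (u v x : leechLattice) (c1 c2 : ℤ) (cs : List ℤ)
    (hnd : (32 :: cs).Nodup)
    (hx : x ∈ dotSet 32 u v 0 (c1, c2, 0))
    (hpos : (dotSet 32 u v 0 (c1, c2, 0)).ncard ≠ 0)
    (hsum : 1 + (cs.map fun c => (dotSet 32 u v x (c1, c2, c)).ncard).sum =
      (dotSet 32 u v 0 (c1, c2, 0)).ncard)
    {y : leechLattice} (hy : y ∈ dotSet 32 u v 0 (c1, c2, 0)) (hyx : y ≠ x) :
    dotInt (x : GolayPt → ℤ) (y : GolayPt → ℤ) ∈ cs := by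
  have hfin : (dotSet 32 u v 0 (c1, c2, 0)).Finite := Set.finite_of_ncard_ne_zero hpos
  have hfib : ∀ c : ℤ, {y | y ∈ dotSet 32 u v 0 (c1, c2, 0) ∧
      dotInt (x : GolayPt → ℤ) (y : GolayPt → ℤ) = c} = dotSet 32 u v x (c1, c2, c) := by
    intro c
    ext z
    rw [Set.mem_setOf_eq, mem_dotSet_zero3]
    constructor
    · rintro ⟨⟨h1, h2, h3⟩, h4⟩; exact ⟨h1, h2, h3, h4⟩
    · rintro ⟨h1, h2, h3, h4⟩; exact ⟨⟨h1, h2, h3⟩, h4⟩
  have hx' := mem_dotSet_zero3.mp hx
  have h32 : {y | y ∈ dotSet 32 u v 0 (c1, c2, 0) ∧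
      dotInt (x : GolayPt → ℤ) (y : GolayPt → ℤ) = 32} = {x} := by
    ext z
    rw [Set.mem_setOf_eq, Set.mem_singleton_iff]
    constructor
    · rintro ⟨hz, hd⟩
      exact eq_of_dot_eq_sqNorm hx'.1 (mem_dotSet_zero3.mp hz).1 hd
    · rintro rfl
      exact ⟨hx, by rw [dotInt_self']; exact hx'.1⟩
  have hval := values_of_ncard (dotSet 32 u v 0 (c1, c2, 0)) hfin
    (fun y => dotInt (x : GolayPt → ℤ) (y : GolayPt → ℤ)) (32 :: cs) hnd
    (by
      rw [List.map_cons, List.sum_cons, h32, Set.ncard_singleton, ← hsum]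
      congr 2
      apply List.map_congr_left
      intro c _
      rw [hfib c]) y hy
  rcases List.mem_cons.mp hval with h | h
  · exact absurd (eq_of_dot_eq_sqNorm hx'.1 (mem_dotSet_zero3.mp hy).1 h) hyx
  · exact h

theorem dotInt_single_right (y : GolayPt → ℤ) (j : GolayPt) (a : ℤ) :
    dotInt y (Pi.single j a) = y j * a := by
  unfold dotInt
  rw [Finset.sum_eq_single j]
  · rw [Pi.single_eq_same]
  · intro i _ hij
    rw [Pi.single_eq_of_ne hij, mul_zero]
  · intro h; exact absurd (Finset.mem_univ j) h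

/-- an integer vector orthogonal to `(5,1,…,1)` and to all `4 e_p + 4 e_j` vanishes -/
theorem eq_zero_of_orth (p : GolayPt) (y u : GolayPt → ℤ)
    (hu : ∀ i, u i = if i = p then 5 else 1) (h1 : dotInt y u = 0)
    (h2 : ∀ j, j ≠ p → y p * 4 + y j * 4 = 0) : y = 0 := by
  have hj : ∀ j, y j = if j = p then y p else -y p := by
    intro j
    by_cases h : j = p
    · rw [if_pos h, h]
    · rw [if_neg h]
      have := h2 j h
      omega
  have h3 : dotInt y u = ∑ i : GolayPt, ((if i = p then 6 * y p else 0) + -y p) := by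
    unfold dotInt
    apply Finset.sum_congr rfl
    intro i _
    rw [hj i, hu i]
    split_ifs <;> ring
  rw [h3, Finset.sum_add_distrib, Finset.sum_ite_eq' Finset.univ p, if_pos (Finset.mem_univ p),
    Finset.sum_const, Finset.card_univ] at h1
  have hc : Fintype.card GolayPt = 24 := by rfl
  rw [hc] at h1
  have hp : y p = 0 := by
    simp only [smul_eq_mul, nsmul_eq_mul] at h1
    push_cast at h1
    omega
  funext j
  rw [hj j, hp]
  simp

theorem dotInt_sub_left (a b s : GolayPt → ℤ) : dotInt (a - b) s = dotInt a s - dotInt b s := by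
  unfold dotInt
  rw [← Finset.sum_sub_distrib]
  exact Finset.sum_congr rfl fun i _ => by rw [Pi.sub_apply]; ring

/-- the base vectors `(5,1,…)`, `(4,4,0,…)`, `(4,-4,0,…)` -/
def mU : leechLattice := mkL McLx.anc0 McLx.anc0_in
def mV : leechLattice := mkL McLx.anc1 McLx.anc1_in
def mX : leechLattice := mkL McLx.anc2 McLx.anc2_in

set_option maxRecDepth 100000 in
theorem mU_coord : ∀ i, (mU : GolayPt → ℤ) i = if i = some 0 then 5 else 1 := by
  decide +kernel

set_option maxRecDepth 100000 in
theorem mV_coord : ∀ i, (mV : GolayPt → ℤ) i =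
    if i = some 0 then 4 else if i = some 1 then 4 else 0 := by
  decide +kernel

set_option maxRecDepth 100000 in
theorem mX_coord : ∀ i, (mX : GolayPt → ℤ) i =
    if i = some 0 then 4 else if i = some 1 then -4 else 0 := by
  decide +kernel

theorem mU_norm : sqNorm (mU : GolayPt → ℤ) = 48 := by
  show sqNorm (toV McLx.anc0) = 48
  rw [sqNorm_toV _ McLx.anc0_in.1]; decide

theorem mV_memP : mV ∈ dotSet 32 mU 0 0 (24, 0, 0) := by
  rw [mem_dotSet_zero23]
  constructor
  · show sqNorm (toV McLx.anc1) = 32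
    rw [sqNorm_toV _ McLx.anc1_in.1]; decide
  · show dotInt (toV McLx.anc0) (toV McLx.anc1) = 24
    rw [dotInt_toV _ _ McLx.anc0_in.1 McLx.anc1_in.1]; decide

theorem k3_base_mcl : SimpCard ↥(stabilizer Co0 mU ⊓ stabilizer Co0 mV ⊓ stabilizer Co0 mX)
    443520 :=
  ⟨simple_k3 (some 0) (some 1) (by decide) mU mV mX mU_coord mV_coord mX_coord,
    card_k3 (some 0) (some 1) (by decide) mU mV mX mU_coord mV_coord mX_coord⟩

theorem k3_McL (u v x : leechLattice) (hu : sqNorm (u : GolayPt → ℤ) = 48)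
    (hv : v ∈ dotSet 32 u 0 0 (24, 0, 0)) (hx : x ∈ dotSet 32 u v 0 (16, 0, 0)) :
    SimpCard ↥(stabilizer Co0 u ⊓ stabilizer Co0 v ⊓ stabilizer Co0 x) 443520 := by
  obtain ⟨h, hb⟩ := McLx.exists_based u v x hu hv hx
  have e := conjStab3 h u v x
  have h1 : h • u = mU := Subtype.ext hb.1
  have h2 : h • v = mV := Subtype.ext hb.2.1
  have h3 : h • x = mX := Subtype.ext hb.2.2
  rw [h1, h2, h3] at e
  exact k3_base_mcl.congr e.symm

/-- an automorphism fixing `(5,1,…)`, `(4,4,0,…)` and the 275 vectors is trivial -/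
theorem faithful_base (g : Co0) (h1 : g • mU = mU) (h2 : g • mV = mV)
    (h3 : ∀ r ∈ dotSet 32 mU mV 0 (24, 16, 0), g • r = r) : g = 1 := by
  have hmem : ∀ j : GolayPt, j ≠ some 0 → E (some 0) + E j ∈ leechLattice := by
    intro j hj
    rw [← closure_minVecs]; exact E_add_mem (Ne.symm hj)
  have hfix : ∀ (j : GolayPt) (hj : j ≠ some 0),
      g • (⟨E (some 0) + E j, hmem j hj⟩ : leechLattice) = ⟨E (some 0) + E j, hmem j hj⟩ := by
    intro j hj
    by_cases hj1 : j = some 1
    · have : (⟨E (some 0) + E j, hmem j hj⟩ : leechLattice) = mV := by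
        apply Subtype.ext
        funext i
        rw [mV_coord]
        show (E (some 0) + E j) i = _
        rw [hj1]
        simp only [E, Pi.add_apply, Pi.single_apply]
        by_cases hi0 : i = some 0
        · rw [if_pos hi0, if_pos hi0, if_neg (by rw [hi0]; decide)]; norm_num
        · rw [if_neg hi0, if_neg hi0]; split_ifs <;> norm_num
      rw [this]; exact h2
    · apply h3
      rw [mem_dotSet_zero3]
      refine ⟨(E_facts (some 0) j (Ne.symm hj)).1.2.2, ?_, ?_⟩
      · show dotInt (mU : GolayPt → ℤ) (E (some 0) + E j) = 24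
        rw [dotInt_add_right, E, E, dotInt_single_right, dotInt_single_right, mU_coord, mU_coord,
          if_pos rfl, if_neg hj]
        norm_num
      · show dotInt (mV : GolayPt → ℤ) (E (some 0) + E j) = 16
        rw [dotInt_add_right, E, E, dotInt_single_right, dotInt_single_right, mV_coord, mV_coord,
          if_pos rfl, if_neg hj, if_neg hj1]
        norm_num
  have hall : ∀ x : leechLattice, g • x = x := by
    intro x
    have hy : ((g • x : leechLattice) : GolayPt → ℤ) - (x : GolayPt → ℤ) = 0 := by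
      apply eq_zero_of_orth (some 0) _ (mU : GolayPt → ℤ) mU_coord
      · rw [dotInt_sub_left]
        have := co0_dot' g x mU
        rw [h1] at this
        rw [this, sub_self]
      · intro j hj
        have h4 := co0_dot' g x ⟨E (some 0) + E j, hmem j hj⟩
        rw [hfix j hj] at h4
        have h5 : dotInt (((g • x : leechLattice) : GolayPt → ℤ) - (x : GolayPt → ℤ))
            (E (some 0) + E j) = 0 := by
          rw [dotInt_sub_left]
          have h6 : dotInt ((g • x : leechLattice) : GolayPt → ℤ) (E (some 0) + E j) =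
              dotInt (x : GolayPt → ℤ) (E (some 0) + E j) := h4
          rw [h6, sub_self]
        rw [dotInt_add_right, E, E, dotInt_single_right, dotInt_single_right] at h5
        exact h5
    apply Subtype.ext
    funext i
    have := congrFun hy i
    simp only [Pi.sub_apply, Pi.zero_apply] at this
    omega
  apply Subtype.ext
  apply Equiv.ext
  intro x
  exact hall x

theorem mcl_of_faithful (u v : leechLattice) (hu : sqNorm (u : GolayPt → ℤ) = 48)
    (hv : v ∈ dotSet 32 u 0 0 (24, 0, 0))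
    (hfaith : ∀ g : Co0, g • u = u → g • v = v →
      (∀ r ∈ dotSet 32 u v 0 (24, 16, 0), g • r = r) → g = 1) :
    SimpCard ↥(stabilizer Co0 u ⊓ stabilizer Co0 v) 898128000 := by
  have hT := McL.card_T u v hu hv
  have hR := McL.card_R u v hu hv
  obtain ⟨x, hx⟩ := Set.nonempty_of_ncard_ne_zero (by rw [hT]; norm_num :
    (dotSet 32 u v 0 (16, 0, 0)).ncard ≠ 0)
  obtain ⟨r, hr⟩ := Set.nonempty_of_ncard_ne_zero (by rw [hR]; norm_num :
    (dotSet 32 u v 0 (24, 16, 0)).ncard ≠ 0)
  have hx' := mem_dotSet_zero3.mp hx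
  have hr' := mem_dotSet_zero3.mp hr
  set S : Subgroup Co0 := stabilizer Co0 u ⊓ stabilizer Co0 v with hS
  have horb : orbit ↥S x = dotSet 32 u v 0 (16, 0, 0) :=
    orbit_eq_dotSet S (mem_stab2 u v)
      (fun y hy y' hy' => by
        obtain ⟨g, h1, h2, h3⟩ := McL.trans_T u v hu hv hy hy'
        exact ⟨g, h1, h2, co0_smul_zero g, h3⟩) hx
  have horbR : orbit ↥S r = dotSet 32 u v 0 (24, 16, 0) :=
    orbit_eq_dotSet S (mem_stab2 u v)
      (fun y hy y' hy' => by
        obtain ⟨g, h1, h2, h3⟩ := McL.trans_R u v hu hv hy hy'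
        exact ⟨g, h1, h2, co0_smul_zero g, h3⟩) hr
  have hk3 := k3_McL u v x hu hv hx
  have hcard : Nat.card ↥S = 898128000 := by
    rw [card_eq_orbit_mul S x, horb, hT, hk3.2]
  haveI : Finite ↥S := Nat.finite_of_card_ne_zero (by rw [hcard]; norm_num)
  have hHs : IsSimpleGroup ↥(stabilizer ↥S x) := (hk3.congr (stabEquiv S x).symm).1
  have hidx : (stabilizer ↥S x).index = 2025 := by rw [index_stabilizer, horb, hT]
  have hidxR : (stabilizer ↥S r).index = 275 := by rw [index_stabilizer, horbR, hR]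
  have hU := McLx.card_U u v x hu hv hx
  have hV := McLx.card_V u v x hu hv hx
  have hW := McLx.card_W u v x hu hv hx
  have hM := U43.card_M u v r hu hv hr
  have hN := U43.card_N u v r hu hv hr
  have hsubT : ∀ c : ℤ, dotSet 32 u v x (16, 0, c) ⊆ dotSet 32 u v 0 (16, 0, 0) := by
    intro c y hy
    exact mem_dotSet_zero3.mpr ⟨hy.1, hy.2.1, hy.2.2.1⟩
  have hsubR : ∀ c : ℤ, dotSet 32 u v r (24, 16, c) ⊆ dotSet 32 u v 0 (24, 16, 0) := by
    intro c y hy
    exact mem_dotSet_zero3.mpr ⟨hy.1, hy.2.1, hy.2.2.1⟩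
  have hmk : ∀ z : leechLattice, ∀ g : Co0, g • u = u → g • v = v → g • z = z →
      ∃ h : ↥S, h ∈ stabilizer ↥S z ∧ ∀ y : leechLattice, h • y = g • y := by
    intro z g h1 h2 h3
    exact ⟨⟨g, (mem_stab2 u v g).mpr ⟨h1, h2, co0_smul_zero g⟩⟩, h3, fun y => rfl⟩
  have hself : ∀ (z : leechLattice) (c : ℤ), sqNorm (z : GolayPt → ℤ) = 32 → c ≠ 32 →
      dotInt (z : GolayPt → ℤ) (z : GolayPt → ℤ) ≠ c := by
    intro z c hz hc h
    rw [dotInt_self', hz] at h
    exact hc h.symm
  have hdjT : ∀ c c' : ℤ, c ≠ c' → ∀ y : leechLattice, y ∈ dotSet 32 u v x (16, 0, c) →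
      y ∉ dotSet 32 u v x (16, 0, c') := by
    intro c c' hcc y h1 h2
    exact hcc (h1.2.2.2.symm.trans h2.2.2.2)
  have hdjR : ∀ c c' : ℤ, c ≠ c' → ∀ y : leechLattice, y ∈ dotSet 32 u v r (24, 16, c) →
      y ∉ dotSet 32 u v r (24, 16, c') := by
    intro c c' hcc y h1 h2
    exact hcc (h1.2.2.2.symm.trans h2.2.2.2)
  -- maximality of the stabiliser of `x`
  have hmax := SC.maximal_of_suborbits (G := ↥S) x
    ![dotSet 32 u v x (16, 0, 0), dotSet 32 u v x (16, 0, 16), dotSet 32 u v x (16, 0, 8)]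
    ![330, 462, 1232]
    (by
      rw [horb]
      intro y hy
      by_cases hyx : y = x
      · exact Or.inl hyx
      · right
        have hy' := mem_dotSet_zero3.mp hy
        have := dots_of_cards u v x 16 0 [0, 16, 8] (by decide) hx (by rw [hT]; norm_num)
          (by
            simp only [List.map_cons, List.map_nil, List.sum_cons, List.sum_nil]
            rw [hU, hV, hW, hT]
            norm_num) hy hyx
        simp only [List.mem_cons, List.not_mem_nil, or_false] at this
        rcases this with h | h | h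
        · exact ⟨0, hy'.1, hy'.2.1, hy'.2.2, h⟩
        · exact ⟨1, hy'.1, hy'.2.1, hy'.2.2, h⟩
        · exact ⟨2, hy'.1, hy'.2.1, hy'.2.2, h⟩)
    (by
      rw [horb]
      intro i
      fin_cases i
      · exact hsubT 0
      · exact hsubT 16
      · exact hsubT 8)
    (by
      intro i
      fin_cases i
      · exact Set.finite_of_ncard_ne_zero
          (by show (dotSet 32 u v x (16, 0, 0)).ncard ≠ 0; rw [hU]; norm_num)
      · exact Set.finite_of_ncard_ne_zero
          (by show (dotSet 32 u v x (16, 0, 16)).ncard ≠ 0; rw [hV]; norm_num)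
      · exact Set.finite_of_ncard_ne_zero
          (by show (dotSet 32 u v x (16, 0, 8)).ncard ≠ 0; rw [hW]; norm_num))
    (by
      intro i
      fin_cases i
      · intro h; exact hself x 0 hx'.1 (by norm_num) h.2.2.2
      · intro h; exact hself x 16 hx'.1 (by norm_num) h.2.2.2
      · intro h; exact hself x 8 hx'.1 (by norm_num) h.2.2.2)
    (by
      intro i j hij
      rw [Set.disjoint_left]
      fin_cases i <;> fin_cases j <;>
        first | exact absurd rfl hij | exact hdjT _ _ (by norm_num))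
    (by
      intro i
      fin_cases i
      · exact hU
      · exact hV
      · exact hW)
    (by
      intro i
      fin_cases i
      · intro y hy y' hy'
        obtain ⟨g, h1, h2, h3, h4⟩ := McLx.trans_U u v x hu hv hx hy hy'
        obtain ⟨h, hh, hact⟩ := hmk x g h1 h2 h3
        exact ⟨h, hh, by rw [hact]; exact h4⟩
      · intro y hy y' hy'
        obtain ⟨g, h1, h2, h3, h4⟩ := McLx.trans_V u v x hu hv hx hy hy'
        obtain ⟨h, hh, hact⟩ := hmk x g h1 h2 h3
        exact ⟨h, hh, by rw [hact]; exact h4⟩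
      · intro y hy y' hy'
        obtain ⟨g, h1, h2, h3, h4⟩ := McLx.trans_W u v x hu hv hx hy hy'
        obtain ⟨h, hh, hact⟩ := hmk x g h1 h2 h3
        exact ⟨h, hh, by rw [hact]; exact h4⟩)
    (by decide)
  have hnn : ¬ (stabilizer ↥S x).Normal := by
    obtain ⟨y, y', hy, hy', hne⟩ := (Set.one_lt_ncard_iff
      (Set.finite_of_ncard_ne_zero (by rw [hU]; norm_num))).mp
      (by rw [hU]; norm_num : 1 < (dotSet 32 u v x (16, 0, 0)).ncard)
    obtain ⟨g, h1, h2, h3, h4⟩ := McLx.trans_U u v x hu hv hx hy hy'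
    obtain ⟨h, hh, hact⟩ := hmk x g h1 h2 h3
    apply SC.not_normal_of_moves x h hh y (by rw [horb]; exact hsubT 0 hy)
    rw [hact, h4]
    exact fun h => hne h.symm
  -- maximality of the stabiliser of `r`
  have hmaxR := SC.maximal_of_suborbits (G := ↥S) r
    ![dotSet 32 u v r (24, 16, 8), dotSet 32 u v r (24, 16, 16)] ![112, 162]
    (by
      rw [horbR]
      intro y hy
      by_cases hyx : y = r
      · exact Or.inl hyx
      · right
        have hy' := mem_dotSet_zero3.mp hy
        rcases Front.dots_of_card u v r 24 16 275 112 162 hr hR hM hN (by norm_num) hy hyx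
          with h | h
        · exact ⟨0, hy'.1, hy'.2.1, hy'.2.2, h⟩
        · exact ⟨1, hy'.1, hy'.2.1, hy'.2.2, h⟩)
    (by
      rw [horbR]
      intro i
      fin_cases i
      · exact hsubR 8
      · exact hsubR 16)
    (by
      intro i
      fin_cases i
      · exact Set.finite_of_ncard_ne_zero
          (by show (dotSet 32 u v r (24, 16, 8)).ncard ≠ 0; rw [hM]; norm_num)
      · exact Set.finite_of_ncard_ne_zero
          (by show (dotSet 32 u v r (24, 16, 16)).ncard ≠ 0; rw [hN]; norm_num))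
    (by
      intro i
      fin_cases i
      · intro h; exact hself r 8 hr'.1 (by norm_num) h.2.2.2
      · intro h; exact hself r 16 hr'.1 (by norm_num) h.2.2.2)
    (by
      intro i j hij
      rw [Set.disjoint_left]
      fin_cases i <;> fin_cases j <;>
        first | exact absurd rfl hij | exact hdjR _ _ (by norm_num))
    (by
      intro i
      fin_cases i
      · exact hM
      · exact hN)
    (by
      intro i
      fin_cases i
      · intro y hy y' hy'
        obtain ⟨g, h1, h2, h3, h4⟩ := U43.trans_M u v r hu hv hr hy hy'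
        obtain ⟨h, hh, hact⟩ := hmk r g h1 h2 h3
        exact ⟨h, hh, by rw [hact]; exact h4⟩
      · intro y hy y' hy'
        obtain ⟨g, h1, h2, h3, h4⟩ := U43.trans_N u v r hu hv hr hy hy'
        obtain ⟨h, hh, hact⟩ := hmk r g h1 h2 h3
        exact ⟨h, hh, by rw [hact]; exact h4⟩)
    (by decide)
  have hcore : ∀ N : Subgroup ↥S, N.Normal → N ≤ stabilizer ↥S r → N = ⊥ := by
    intro N hN hNK
    rw [eq_bot_iff]
    intro n hn
    rw [Subgroup.mem_bot]
    apply Subtype.ext
    obtain ⟨f1, f2, _⟩ := (mem_stab2 u v n.1).mp n.2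
    apply hfaith n.1 f1 f2
    intro r' hr'
    rw [← horbR] at hr'
    obtain ⟨g, rfl⟩ := hr'
    have h1 : g⁻¹ * n * g⁻¹⁻¹ ∈ N := hN.conj_mem n hn g⁻¹
    have h2 := hNK h1
    rw [inv_inv, mem_stabilizer_iff, mul_smul, mul_smul, inv_smul_eq_iff] at h2
    exact h2
  refine ⟨SC.simple_of_two_max (stabilizer ↥S x) (stabilizer ↥S r) hHs hmax hnn hmaxR hcore ?_,
    hcard⟩
  rw [hidx, hidxR]
  norm_num

theorem mcl_base : SimpCard ↥(stabilizer Co0 mU ⊓ stabilizer Co0 mV) 898128000 :=
  mcl_of_faithful mU mV mU_norm mV_memP faithful_base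

theorem mcl_simpCard (u v : leechLattice) (hu : sqNorm (u : GolayPt → ℤ) = 48)
    (hv : v ∈ dotSet 32 u 0 0 (24, 0, 0)) :
    SimpCard ↥(stabilizer Co0 u ⊓ stabilizer Co0 v) 898128000 := by
  obtain ⟨h, hb⟩ := McL.exists_based u v hu hv
  have e := conjStab2 h u v
  have h1 : h • u = mU := Subtype.ext (by rw [hb.1]; rfl)
  have h2 : h • v = mV := Subtype.ext (by rw [hb.2.1]; rfl)
  rw [h1, h2] at e
  exact mcl_base.congr e.symm

theorem stab_pair_eq (v w : leechLattice) :
    stabilizer Co0 v ⊓ stabilizer Co0 w = stabilizer Co0 (v + w) ⊓ stabilizer Co0 v := by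
  ext g
  simp only [Subgroup.mem_inf, mem_stabilizer_iff]
  constructor
  · rintro ⟨h1, h2⟩
    exact ⟨by rw [co0_smul_add, h1, h2], h1⟩
  · rintro ⟨h1, h2⟩
    exact ⟨h2, Front.fix_w_of v w h1 h2⟩

theorem mcl_simpCard' (v w : leechLattice) (hv : sqNorm (v : GolayPt → ℤ) = 32)
    (hw : sqNorm (w : GolayPt → ℤ) = 32)
    (hvw : dotInt (v : GolayPt → ℤ) (w : GolayPt → ℤ) = -8) :
    SimpCard ↥(stabilizer Co0 v ⊓ stabilizer Co0 w) 898128000 := by
  rw [stab_pair_eq]
  exact mcl_simpCard (v + w) v (Front.sum_norm v w hv hw hvw) (Front.sum_memP v w hv hw hvw)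

end Cfsg.Agent.Helper4.CO.Grp
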