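import Cfsg.Agent.Lib.Helper4.Orb.GrpCo0
import Cfsg.Agent.S0396
import Cfsg.Agent.S0376

set_option autoImplicit false
set_option linter.style.haveILetI false
set_option linter.unusedVariables false
set_option linter.unusedSectionVars false

/-! The automorphism group of the rank-24 lattice is transitive on the vectors of sum of squares
64: the orbit of `8 e_p` has as many elements as there are such vectors. -/

namespace Cfsg.Agent.Helper4.CO.Grp

open Cfsg Cfsg.Agent.Lib.Helper4 Cfsg.Agent.Lib.Helper28 Cfsg.Agent.Helper4.CO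
  Cfsg.Agent.Helper4.LC Cfsg.Agent.S0398 MulAction

/-- at most half of the codewords vanish at a given point -/
theorem card_code_zero_le (p : GolayPt) :
    Nat.card {w : golayCode // (w : GolayPt → ZMod 2) p = 0} ≤ 2048 := by
  let one' : golayCode := ⟨1, one_mem_golayCode⟩
  let f : {w : golayCode // (w : GolayPt → ZMod 2) p = 0} ⊕
      {w : golayCode // (w : GolayPt → ZMod 2) p = 0} → golayCode :=
    fun s => match s with
      | .inl w => w.1
      | .inr w => w.1 + one'
  have hf : Function.Injective f := by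
    rintro (a | a) (b | b) h
    · exact congrArg Sum.inl (Subtype.ext h)
    · exfalso
      have h1 : (a.1 : GolayPt → ZMod 2) p = ((b.1 + one' : golayCode) : GolayPt → ZMod 2) p := by
        have : a.1 = b.1 + one' := h
        rw [this]
      rw [a.2] at h1
      have h2 : ((b.1 + one' : golayCode) : GolayPt → ZMod 2) p =
          (b.1 : GolayPt → ZMod 2) p + 1 := rfl
      rw [h2, b.2] at h1
      exact absurd h1 (by decide)
    · exfalso
      have h1 : ((a.1 + one' : golayCode) : GolayPt → ZMod 2) p = (b.1 : GolayPt → ZMod 2) p := by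
        have : a.1 + one' = b.1 := h
        rw [this]
      rw [b.2] at h1
      have h2 : ((a.1 + one' : golayCode) : GolayPt → ZMod 2) p =
          (a.1 : GolayPt → ZMod 2) p + 1 := rfl
      rw [h2, a.2] at h1
      exact absurd h1 (by decide)
    · have : a.1 + one' = b.1 + one' := h
      exact congrArg Sum.inr (Subtype.ext (add_right_cancel this))
  have h1 := Nat.card_le_card_of_injective f hf
  have h2 : Nat.card golayCode = 2 ^ 12 := golayCode_isGolayLike.card_code
  rw [Nat.card_sum, h2] at h1
  omega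

/-- a monomial automorphism fixing `8 e_r` fixes the point `r` and does not change its sign -/
theorem fix_e8_of_monomial (g : Co0) (σ : Equiv.Perm GolayPt) (c : Finset GolayPt)
    (hgw : ∀ v : leechLattice, (((g : Equiv.Perm leechLattice) v : leechLattice) : GolayPt → ℤ) =
      signedPerm σ c (v : GolayPt → ℤ)) (r : GolayPt) (hr : co0Hom g (e8 r) = e8 r) :
    σ r = r ∧ σ r ∉ c := by
  have h4 := hgw (e8 r)
  rw [e8_coe, signedPerm_single] at h4
  have h5 : (((g : Equiv.Perm leechLattice) (e8 r) : leechLattice) : GolayPt → ℤ) =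
      Pi.single r 8 := congrArg (fun v : leechLattice => (v : GolayPt → ℤ)) hr
  rw [h5] at h4
  have h6 := congrFun h4 (σ r)
  rw [Pi.single_eq_same, Pi.single_apply] at h6
  by_cases hr' : σ r = r
  · refine ⟨hr', ?_⟩
    intro hc
    rw [if_pos hr', if_pos hc] at h6
    norm_num at h6
  · rw [if_neg hr'] at h6
    split_ifs at h6 <;> norm_num at h6

theorem card_stab_e8_le (p : GolayPt) :
    Nat.card ↥(stabilizer Co0 (e8 p)) ≤ 10200960 * 2048 := by
  classical
  haveI := finite_co0
  have hex : ∀ g : ↥(stabilizer Co0 (e8 p)),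
      ∃ q : ↥(stabilizer M24 p) × {w : golayCode // (w : GolayPt → ZMod 2) p = 0},
        ∀ v : leechLattice, (((g.1 : Equiv.Perm leechLattice) v : leechLattice) : GolayPt → ℤ) =
          signedPerm (q.1.1 : Equiv.Perm GolayPt) (support₂ (q.2.1 : GolayPt → ZMod 2))
            (v : GolayPt → ℤ) := by
    intro g
    have hg : co0Hom g.1 (e8 p) = e8 p := g.2
    obtain ⟨σ, hσ, w, hw, hgw⟩ := stab_monomial g.1 (stdCross_of_fix g.1 p hg)
    obtain ⟨h1, h2⟩ := fix_e8_of_monomial g.1 σ (support₂ w) hgw p hg
    rw [h1, mem_support₂_iff, not_not] at h2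
    exact ⟨(⟨⟨σ, hσ⟩, h1⟩, ⟨⟨w, hw⟩, h2⟩), hgw⟩
  choose Ψ hΨ using hex
  have hinj : Function.Injective Ψ := by
    intro g g' h
    apply Subtype.ext
    apply Subtype.ext
    apply Equiv.ext
    intro v
    apply Subtype.ext
    have h1 := hΨ g v
    have h2 := hΨ g' v
    rw [h] at h1
    exact h1.trans h2.symm
  have h1 := Nat.card_le_card_of_injective Ψ hinj
  rw [Nat.card_prod, Cfsg.Agent.S0376.result p] at h1
  exact h1.trans (Nat.mul_le_mul_left _ (card_code_zero_le p))

/-- the set of vectors of sum of squares 64 -/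
def set64 : Set leechLattice := {x | sqNorm (x : GolayPt → ℤ) = 64}

theorem ncard_set64 : set64.ncard = 398034000 := by
  unfold set64
  rw [ncard_sub (fun x => sqNorm x = 64)]
  exact Cfsg.Agent.S0396.result

theorem orbit_e8 (p : GolayPt) : orbit Co0 (e8 p) = set64 := by
  have hsub : orbit Co0 (e8 p) ⊆ set64 := by
    rintro _ ⟨g, rfl⟩
    show sqNorm ((g • e8 p : leechLattice) : GolayPt → ℤ) = 64
    rw [co0_sqNorm', sqNorm_e8]
  have hfin : set64.Finite := Set.finite_of_ncard_ne_zero (by rw [ncard_set64]; norm_num)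
  apply Set.eq_of_subset_of_ncard_le hsub _ hfin
  rw [ncard_set64, ← index_stabilizer]
  have h1 := (stabilizer Co0 (e8 p)).card_mul_index
  rw [card_co0] at h1
  have h2 := card_stab_e8_le p
  by_contra hlt
  push_neg at hlt
  have h3 : Nat.card ↥(stabilizer Co0 (e8 p)) * (stabilizer Co0 (e8 p)).index ≤
      (10200960 * 2048) * 398033999 :=
    Nat.mul_le_mul h2 (by omega)
  rw [h1] at h3
  norm_num at h3

theorem trans64 (v w : leechLattice) (hv : sqNorm (v : GolayPt → ℤ) = 64)
    (hw : sqNorm (w : GolayPt → ℤ) = 64) : ∃ g : Co0, g • v = w := by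
  have h1 : v ∈ orbit Co0 (e8 none) := by rw [orbit_e8]; exact hv
  have h2 : w ∈ orbit Co0 (e8 none) := by rw [orbit_e8]; exact hw
  obtain ⟨a, ha⟩ := h1
  obtain ⟨b, hb⟩ := h2
  refine ⟨b * a⁻¹, ?_⟩
  rw [← ha, ← hb, mul_smul, inv_smul_smul]

end Cfsg.Agent.Helper4.CO.Grp
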