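import Cfsg.Agent.Lib.Helper4.Orb.C3.Main

set_option autoImplicit false
set_option linter.style.haveILetI false
set_option linter.unusedVariables false
set_option linter.unusedSectionVars false

/-! The stabiliser of a vector of sum of squares 48, statements in final form. -/

namespace Cfsg.Agent.Helper4.CO.Front

open Cfsg Cfsg.Agent.Lib.Helper28 Cfsg.Agent.Helper4.CO

theorem setP_eq (u : leechLattice) (hu : sqNorm (u : GolayPt → ℤ) = 48) :
    {v : leechLattice | sqNorm (v : GolayPt → ℤ) = 32 ∧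
      sqNorm ((u : GolayPt → ℤ) - (v : GolayPt → ℤ)) = 32} = dotSet 32 u 0 0 (24, 0, 0) := by
  ext x
  rw [mem_dotSet_zero23, Set.mem_setOf_eq]
  constructor
  · rintro ⟨h1, h2⟩; exact ⟨h1, (sqNorm_sub_iff hu h1).mp h2⟩
  · rintro ⟨h1, h2⟩; exact ⟨h1, (sqNorm_sub_iff hu h1).mpr h2⟩

theorem setQ_eq (u : leechLattice) :
    {x : leechLattice | sqNorm (x : GolayPt → ℤ) = 32 ∧
      dotInt (u : GolayPt → ℤ) (x : GolayPt → ℤ) = -16} = dotSet 32 u 0 0 (-16, 0, 0) := by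
  ext x
  rw [mem_dotSet_zero23, Set.mem_setOf_eq]

theorem s1578 (u : leechLattice) (hu : sqNorm (u : GolayPt → ℤ) = 48) :
    {v : leechLattice | sqNorm (v : GolayPt → ℤ) = 32 ∧
      sqNorm ((u : GolayPt → ℤ) - (v : GolayPt → ℤ)) = 32}.ncard = 552 := by
  rw [setP_eq u hu]; exact C3.card_P u hu

theorem s1579 (u v v' : leechLattice) (hu : sqNorm (u : GolayPt → ℤ) = 48)
    (hv : sqNorm (v : GolayPt → ℤ) = 32 ∧
      sqNorm ((u : GolayPt → ℤ) - (v : GolayPt → ℤ)) = 32)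
    (hv' : sqNorm (v' : GolayPt → ℤ) = 32 ∧
      sqNorm ((u : GolayPt → ℤ) - (v' : GolayPt → ℤ)) = 32) :
    ∃ g : Co0, g • u = u ∧ g • v = v' := by
  have h1 : v ∈ dotSet 32 u 0 0 (24, 0, 0) := by rw [← setP_eq u hu]; exact hv
  have h2 : v' ∈ dotSet 32 u 0 0 (24, 0, 0) := by rw [← setP_eq u hu]; exact hv'
  exact C3.trans_P u hu h1 h2

theorem s1640 (u : leechLattice) (hu : sqNorm (u : GolayPt → ℤ) = 48) :
    {x : leechLattice | sqNorm (x : GolayPt → ℤ) = 32 ∧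
      dotInt (u : GolayPt → ℤ) (x : GolayPt → ℤ) = -16}.ncard = 11178 ∧
    ∀ x ∈ {x : leechLattice | sqNorm (x : GolayPt → ℤ) = 32 ∧
      dotInt (u : GolayPt → ℤ) (x : GolayPt → ℤ) = -16},
    ∀ x' ∈ {x : leechLattice | sqNorm (x : GolayPt → ℤ) = 32 ∧
      dotInt (u : GolayPt → ℤ) (x : GolayPt → ℤ) = -16},
      ∃ g : Co0, g • u = u ∧ g • x = x' := by
  rw [setQ_eq u]
  exact ⟨C3.card_Q u hu, fun x hx x' hx' => C3.trans_Q u hu hx hx'⟩

end Cfsg.Agent.Helper4.CO.Front
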