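import Cfsg.Agent.Lib.Helper4.Orb.FrontC3
import Cfsg.Agent.Lib.Helper4.Orb.McLx.Main

set_option autoImplicit false
set_option linter.style.haveILetI false
set_option linter.unusedVariables false
set_option linter.unusedSectionVars false

/-! The McLaughlin configuration, statements in final form. -/

namespace Cfsg.Agent.Helper4.CO.Front

open Cfsg Cfsg.Agent.Lib.Helper28 Cfsg.Agent.Helper4.CO

theorem setR_eq (u v : leechLattice) (hu : sqNorm (u : GolayPt → ℤ) = 48) :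
    {x : leechLattice | sqNorm (x : GolayPt → ℤ) = 32 ∧
      sqNorm ((u : GolayPt → ℤ) - (x : GolayPt → ℤ)) = 32 ∧
      dotInt (v : GolayPt → ℤ) (x : GolayPt → ℤ) = 16} = dotSet 32 u v 0 (24, 16, 0) := by
  ext x
  rw [mem_dotSet_zero3, Set.mem_setOf_eq]
  constructor
  · rintro ⟨h1, h2, h3⟩; exact ⟨h1, (sqNorm_sub_iff hu h1).mp h2, h3⟩
  · rintro ⟨h1, h2, h3⟩; exact ⟨h1, (sqNorm_sub_iff hu h1).mpr h2, h3⟩

theorem memP_of (u v : leechLattice) (hu : sqNorm (u : GolayPt → ℤ) = 48)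
    (hv : sqNorm (v : GolayPt → ℤ) = 32 ∧
      sqNorm ((u : GolayPt → ℤ) - (v : GolayPt → ℤ)) = 32) :
    v ∈ dotSet 32 u 0 0 (24, 0, 0) := by
  rw [← setP_eq u hu]; exact hv

theorem s1580 (u v : leechLattice) (hu : sqNorm (u : GolayPt → ℤ) = 48)
    (hv : sqNorm (v : GolayPt → ℤ) = 32 ∧
      sqNorm ((u : GolayPt → ℤ) - (v : GolayPt → ℤ)) = 32) :
    {x : leechLattice | sqNorm (x : GolayPt → ℤ) = 32 ∧
      sqNorm ((u : GolayPt → ℤ) - (x : GolayPt → ℤ)) = 32 ∧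
      dotInt (v : GolayPt → ℤ) (x : GolayPt → ℤ) = 16}.ncard = 275 ∧
    ∀ x ∈ {x : leechLattice | sqNorm (x : GolayPt → ℤ) = 32 ∧
      sqNorm ((u : GolayPt → ℤ) - (x : GolayPt → ℤ)) = 32 ∧
      dotInt (v : GolayPt → ℤ) (x : GolayPt → ℤ) = 16},
    ∀ x' ∈ {x : leechLattice | sqNorm (x : GolayPt → ℤ) = 32 ∧
      sqNorm ((u : GolayPt → ℤ) - (x : GolayPt → ℤ)) = 32 ∧
      dotInt (v : GolayPt → ℤ) (x : GolayPt → ℤ) = 16},
      ∃ g : Co0, g • u = u ∧ g • v = v ∧ g • x = x' := by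
  have hvP := memP_of u v hu hv
  rw [setR_eq u v hu]
  exact ⟨McL.card_R u v hu hvP, fun x hx x' hx' => McL.trans_R u v hu hvP hx hx'⟩

/-! ### the 2025 vectors -/

section

variable (v w : leechLattice) (hv : sqNorm (v : GolayPt → ℤ) = 32)
  (hw : sqNorm (w : GolayPt → ℤ) = 32)
  (hvw : dotInt (v : GolayPt → ℤ) (w : GolayPt → ℤ) = -8)

include hv hw hvw

theorem sum_norm : sqNorm ((v + w : leechLattice) : GolayPt → ℤ) = 48 := by
  have e : ((v + w : leechLattice) : GolayPt → ℤ) = (v : GolayPt → ℤ) + (w : GolayPt → ℤ) := rfl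
  rw [e, sqNorm_add, hv, hw, hvw]; norm_num

theorem sum_memP : v ∈ dotSet 32 (v + w) 0 0 (24, 0, 0) := by
  rw [mem_dotSet_zero23]
  have e : ((v + w : leechLattice) : GolayPt → ℤ) = (v : GolayPt → ℤ) + (w : GolayPt → ℤ) := rfl
  refine ⟨hv, ?_⟩
  rw [e, dotInt_comm', dotInt_add_right, dotInt_self', hv, hvw]; norm_num

omit hv hw hvw in
theorem setT_eq :
    {x : leechLattice | sqNorm (x : GolayPt → ℤ) = 32 ∧
      dotInt (v : GolayPt → ℤ) (x : GolayPt → ℤ) = 0 ∧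
      dotInt (w : GolayPt → ℤ) (x : GolayPt → ℤ) = 16} = dotSet 32 (v + w) v 0 (16, 0, 0) := by
  ext x
  rw [mem_dotSet_zero3, Set.mem_setOf_eq]
  have e : ((v + w : leechLattice) : GolayPt → ℤ) = (v : GolayPt → ℤ) + (w : GolayPt → ℤ) := rfl
  have e2 : dotInt ((v + w : leechLattice) : GolayPt → ℤ) (x : GolayPt → ℤ) =
      dotInt (v : GolayPt → ℤ) (x : GolayPt → ℤ) + dotInt (w : GolayPt → ℤ) (x : GolayPt → ℤ) := by
    rw [e, dotInt_comm', dotInt_add_right, dotInt_comm' _ (v : GolayPt → ℤ),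
      dotInt_comm' _ (w : GolayPt → ℤ)]
  rw [e2]
  constructor
  · rintro ⟨h1, h2, h3⟩; exact ⟨h1, by omega, h2⟩
  · rintro ⟨h1, h2, h3⟩; exact ⟨h1, h3, by omega⟩

omit hv hw hvw in
theorem fix_w_of {g : Co0} (h1 : g • (v + w) = v + w) (h2 : g • v = v) : g • w = w := by
  have h3 := co0_smul_add g v w
  rw [h1, h2] at h3
  exact (add_left_cancel h3).symm

theorem s1634_trans {x x' : leechLattice} (hx : x ∈ dotSet 32 (v + w) v 0 (16, 0, 0))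
    (hx' : x' ∈ dotSet 32 (v + w) v 0 (16, 0, 0)) :
    ∃ g : Co0, g • v = v ∧ g • w = w ∧ g • x = x' := by
  obtain ⟨g, h1, h2, h3⟩ := McL.trans_T (v + w) v (sum_norm v w hv hw hvw)
    (sum_memP v w hv hw hvw) hx hx'
  exact ⟨g, h2, fix_w_of v w h1 h2, h3⟩

omit hv hw hvw in
theorem stab3_iff (x : leechLattice) (g : Co0) :
    g ∈ MulAction.stabilizer ↥Co0 v ⊓ MulAction.stabilizer ↥Co0 w ⊓ MulAction.stabilizer ↥Co0 x ↔
      (g • (v + w) = v + w ∧ g • v = v ∧ g • x = x) := by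
  rw [mem_stab3]
  constructor
  · rintro ⟨h1, h2, h3⟩
    exact ⟨by rw [co0_smul_add, h1, h2], h1, h3⟩
  · rintro ⟨h1, h2, h3⟩
    exact ⟨h2, fix_w_of v w h1 h2, h3⟩

theorem s1634_orbits {x : leechLattice} (hx : x ∈ dotSet 32 (v + w) v 0 (16, 0, 0)) :
    ∃ y₁ ∈ dotSet 32 (v + w) v 0 (16, 0, 0), ∃ y₂ ∈ dotSet 32 (v + w) v 0 (16, 0, 0),
    ∃ y₃ ∈ dotSet 32 (v + w) v 0 (16, 0, 0),
      (MulAction.orbit ↥(MulAction.stabilizer ↥Co0 v ⊓ MulAction.stabilizer ↥Co0 w ⊓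
        MulAction.stabilizer ↥Co0 x) y₁).ncard = 330 ∧
      (MulAction.orbit ↥(MulAction.stabilizer ↥Co0 v ⊓ MulAction.stabilizer ↥Co0 w ⊓
        MulAction.stabilizer ↥Co0 x) y₂).ncard = 462 ∧
      (MulAction.orbit ↥(MulAction.stabilizer ↥Co0 v ⊓ MulAction.stabilizer ↥Co0 w ⊓
        MulAction.stabilizer ↥Co0 x) y₃).ncard = 1232 := by
  have hu := sum_norm v w hv hw hvw
  have hvP := sum_memP v w hv hw hvw
  have hsub : ∀ c3 : ℤ, ∀ y ∈ dotSet 32 (v + w) v x (16, 0, c3),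
      y ∈ dotSet 32 (v + w) v 0 (16, 0, 0) := by
    intro c3 y hy
    rw [mem_dotSet_zero3]
    exact ⟨hy.1, hy.2.1, hy.2.2.1⟩
  have hU := McLx.card_U (v + w) v x hu hvP hx
  have hV := McLx.card_V (v + w) v x hu hvP hx
  have hW := McLx.card_W (v + w) v x hu hvP hx
  obtain ⟨y₁, hy₁⟩ := Set.nonempty_of_ncard_ne_zero (by rw [hU]; norm_num :
    (dotSet 32 (v + w) v x (16, 0, 0)).ncard ≠ 0)
  obtain ⟨y₂, hy₂⟩ := Set.nonempty_of_ncard_ne_zero (by rw [hV]; norm_num :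
    (dotSet 32 (v + w) v x (16, 0, 16)).ncard ≠ 0)
  obtain ⟨y₃, hy₃⟩ := Set.nonempty_of_ncard_ne_zero (by rw [hW]; norm_num :
    (dotSet 32 (v + w) v x (16, 0, 8)).ncard ≠ 0)
  refine ⟨y₁, hsub _ y₁ hy₁, y₂, hsub _ y₂ hy₂, y₃, hsub _ y₃ hy₃, ?_, ?_, ?_⟩
  · rw [orbit_eq_dotSet _ (stab3_iff v w x)
      (fun a ha b hb => McLx.trans_U (v + w) v x hu hvP hx ha hb) hy₁, hU]
  · rw [orbit_eq_dotSet _ (stab3_iff v w x)
      (fun a ha b hb => McLx.trans_V (v + w) v x hu hvP hx ha hb) hy₂, hV]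
  · rw [orbit_eq_dotSet _ (stab3_iff v w x)
      (fun a ha b hb => McLx.trans_W (v + w) v x hu hvP hx ha hb) hy₃, hW]

theorem s1634 :
    {x : leechLattice | sqNorm (x : GolayPt → ℤ) = 32 ∧
      dotInt (v : GolayPt → ℤ) (x : GolayPt → ℤ) = 0 ∧
      dotInt (w : GolayPt → ℤ) (x : GolayPt → ℤ) = 16}.ncard = 2025 ∧
    (∀ x ∈ {x : leechLattice | sqNorm (x : GolayPt → ℤ) = 32 ∧
      dotInt (v : GolayPt → ℤ) (x : GolayPt → ℤ) = 0 ∧
      dotInt (w : GolayPt → ℤ) (x : GolayPt → ℤ) = 16},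
     ∀ x' ∈ {x : leechLattice | sqNorm (x : GolayPt → ℤ) = 32 ∧
      dotInt (v : GolayPt → ℤ) (x : GolayPt → ℤ) = 0 ∧
      dotInt (w : GolayPt → ℤ) (x : GolayPt → ℤ) = 16},
      ∃ g : Co0, g • v = v ∧ g • w = w ∧ g • x = x') ∧
    ∀ x ∈ {x : leechLattice | sqNorm (x : GolayPt → ℤ) = 32 ∧
      dotInt (v : GolayPt → ℤ) (x : GolayPt → ℤ) = 0 ∧
      dotInt (w : GolayPt → ℤ) (x : GolayPt → ℤ) = 16},
    ∃ y₁ ∈ {x : leechLattice | sqNorm (x : GolayPt → ℤ) = 32 ∧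
      dotInt (v : GolayPt → ℤ) (x : GolayPt → ℤ) = 0 ∧
      dotInt (w : GolayPt → ℤ) (x : GolayPt → ℤ) = 16},
    ∃ y₂ ∈ {x : leechLattice | sqNorm (x : GolayPt → ℤ) = 32 ∧
      dotInt (v : GolayPt → ℤ) (x : GolayPt → ℤ) = 0 ∧
      dotInt (w : GolayPt → ℤ) (x : GolayPt → ℤ) = 16},
    ∃ y₃ ∈ {x : leechLattice | sqNorm (x : GolayPt → ℤ) = 32 ∧
      dotInt (v : GolayPt → ℤ) (x : GolayPt → ℤ) = 0 ∧
      dotInt (w : GolayPt → ℤ) (x : GolayPt → ℤ) = 16},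
      (MulAction.orbit ↥(MulAction.stabilizer ↥Co0 v ⊓ MulAction.stabilizer ↥Co0 w ⊓
        MulAction.stabilizer ↥Co0 x) y₁).ncard = 330 ∧
      (MulAction.orbit ↥(MulAction.stabilizer ↥Co0 v ⊓ MulAction.stabilizer ↥Co0 w ⊓
        MulAction.stabilizer ↥Co0 x) y₂).ncard = 462 ∧
      (MulAction.orbit ↥(MulAction.stabilizer ↥Co0 v ⊓ MulAction.stabilizer ↥Co0 w ⊓
        MulAction.stabilizer ↥Co0 x) y₃).ncard = 1232 := by
  rw [setT_eq v w]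
  exact ⟨McL.card_T (v + w) v (sum_norm v w hv hw hvw) (sum_memP v w hv hw hvw),
    fun x hx x' hx' => s1634_trans v w hv hw hvw hx hx',
    fun x hx => s1634_orbits v w hv hw hvw hx⟩

end

end Cfsg.Agent.Helper4.CO.Front
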