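import Cfsg.Agent.Lib.Helper4.Orb.U35x.Main

set_option autoImplicit false
set_option linter.style.haveILetI false
set_option linter.unusedVariables false
set_option linter.unusedSectionVars false

/-! The 352 vectors of the Higman--Sims configuration, statement in final form. -/

namespace Cfsg.Agent.Helper4.CO.Front

open Cfsg Cfsg.Agent.Lib.Helper28 Cfsg.Agent.Helper4.CO MulAction

theorem coe_neg' (x : leechLattice) : ((-x : leechLattice) : GolayPt → ℤ) =
    -(x : GolayPt → ℤ) := rfl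

/-- the set of the statement is the negative of the set of the 352 vectors -/
theorem mem_setX_iff (v w x : leechLattice) :
    x ∈ {x : leechLattice | sqNorm (x : GolayPt → ℤ) = 32 ∧
      dotInt (v : GolayPt → ℤ) (x : GolayPt → ℤ) = 16 ∧
      dotInt (w : GolayPt → ℤ) (x : GolayPt → ℤ) = -24} ↔
    -x ∈ dotSet 32 v w 0 (-16, 24, 0) := by
  rw [mem_dotSet_zero3, coe_neg', sqNorm_neg', dotInt_neg_right, dotInt_neg_right,
    Set.mem_setOf_eq]
  constructor
  · rintro ⟨h1, h2, h3⟩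
    exact ⟨h1, by omega, by omega⟩
  · rintro ⟨h1, h2, h3⟩
    exact ⟨h1, by omega, by omega⟩

theorem stabilizer_neg (x : leechLattice) : stabilizer Co0 (-x) = stabilizer Co0 x := by
  ext g
  rw [mem_stabilizer_iff, mem_stabilizer_iff, co0_smul_neg, neg_inj]

theorem s1633 (v w : leechLattice) (hv : sqNorm (v : GolayPt → ℤ) = 48)
    (hw : sqNorm (w : GolayPt → ℤ) = 48)
    (hvw : dotInt (v : GolayPt → ℤ) (w : GolayPt → ℤ) = -32)
    (F : Type) [Field F] [Fintype F] (hF : Fintype.card F = 25) :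
    {x : leechLattice | sqNorm (x : GolayPt → ℤ) = 32 ∧
      dotInt (v : GolayPt → ℤ) (x : GolayPt → ℤ) = 16 ∧
      dotInt (w : GolayPt → ℤ) (x : GolayPt → ℤ) = -24}.ncard = 352 ∧
    (∀ x ∈ {x : leechLattice | sqNorm (x : GolayPt → ℤ) = 32 ∧
      dotInt (v : GolayPt → ℤ) (x : GolayPt → ℤ) = 16 ∧
      dotInt (w : GolayPt → ℤ) (x : GolayPt → ℤ) = -24},
      -w - x ∈ {x : leechLattice | sqNorm (x : GolayPt → ℤ) = 32 ∧
      dotInt (v : GolayPt → ℤ) (x : GolayPt → ℤ) = 16 ∧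
      dotInt (w : GolayPt → ℤ) (x : GolayPt → ℤ) = -24}) ∧
    (∀ x ∈ {x : leechLattice | sqNorm (x : GolayPt → ℤ) = 32 ∧
      dotInt (v : GolayPt → ℤ) (x : GolayPt → ℤ) = 16 ∧
      dotInt (w : GolayPt → ℤ) (x : GolayPt → ℤ) = -24},
     ∀ x' ∈ {x : leechLattice | sqNorm (x : GolayPt → ℤ) = 32 ∧
      dotInt (v : GolayPt → ℤ) (x : GolayPt → ℤ) = 16 ∧
      dotInt (w : GolayPt → ℤ) (x : GolayPt → ℤ) = -24},
      ∃ g : Co0, g • v = v ∧ g • w = w ∧ g • x = x') ∧
    ∀ x ∈ {x : leechLattice | sqNorm (x : GolayPt → ℤ) = 32 ∧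
      dotInt (v : GolayPt → ℤ) (x : GolayPt → ℤ) = 16 ∧
      dotInt (w : GolayPt → ℤ) (x : GolayPt → ℤ) = -24},
      Nonempty (↥(stabilizer ↥Co0 v ⊓ stabilizer ↥Co0 w ⊓ stabilizer ↥Co0 x) ≃*
        Cfsg.PSU 3 F 5) := by
  refine ⟨?_, ?_, ?_, ?_⟩
  · have himg : {x : leechLattice | sqNorm (x : GolayPt → ℤ) = 32 ∧
        dotInt (v : GolayPt → ℤ) (x : GolayPt → ℤ) = 16 ∧
        dotInt (w : GolayPt → ℤ) (x : GolayPt → ℤ) = -24} =
        (fun y : leechLattice => -y) '' dotSet 32 v w 0 (-16, 24, 0) := by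
      ext x
      rw [mem_setX_iff, Set.mem_image]
      constructor
      · intro h
        exact ⟨-x, h, neg_neg x⟩
      · rintro ⟨y, hy, rfl⟩
        rw [neg_neg]; exact hy
    rw [himg, Set.ncard_image_of_injective _ neg_injective]
    exact HS.card_I v w hv hw hvw
  · intro x hx
    obtain ⟨h1, h2, h3⟩ := hx
    have e : ((-w - x : leechLattice) : GolayPt → ℤ) =
        -((w : GolayPt → ℤ) + (x : GolayPt → ℤ)) := by
      have : (-w - x : leechLattice) = -(w + x) := by abel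
      rw [this]; rfl
    refine ⟨?_, ?_, ?_⟩
    · rw [e, sqNorm_neg', sqNorm_add, hw, h1, h3]; norm_num
    · rw [e, dotInt_neg_right, dotInt_add_right, hvw, h2]; norm_num
    · rw [e, dotInt_neg_right, dotInt_add_right, dotInt_self', hw, h3]; norm_num
  · intro x hx x' hx'
    rw [mem_setX_iff] at hx hx'
    obtain ⟨g, g1, g2, g3⟩ := HS.trans_of v w hv hw hvw _ (Or.inr (Or.inl rfl)) hx hx'
    refine ⟨g, g1, g2, ?_⟩
    rw [co0_smul_neg] at g3
    exact neg_injective g3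
  · intro x hx
    rw [mem_setX_iff] at hx
    have h := U35x.main v w (-x) hv hw hvw hx F hF
    rw [stabilizer_neg] at h
    exact h

end Cfsg.Agent.Helper4.CO.Front
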