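import Cfsg.Agent.Lib.Helper4.Orb.FrontMcL
import Cfsg.Agent.Lib.Helper4.Orb.U43.Main

set_option autoImplicit false
set_option linter.style.haveILetI false
set_option linter.unusedVariables false
set_option linter.unusedSectionVars false

/-! The 275 vectors of the McLaughlin configuration: the 112 and 162 vectors attached to one of
them, statements in final form. -/

namespace Cfsg.Agent.Helper4.CO.Front

open Cfsg Cfsg.Agent.Lib.Helper28 Cfsg.Agent.Helper4.CO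

/-- the three sets cut out of a set of vectors of sum of squares 32 by the inner product with one
of its elements exhaust it -/
theorem dots_of_card (u v x : leechLattice) (c1 c2 : ℤ) (n n8 n16 : ℕ)
    (hx : x ∈ dotSet 32 u v 0 (c1, c2, 0))
    (hn : (dotSet 32 u v 0 (c1, c2, 0)).ncard = n)
    (h8 : (dotSet 32 u v x (c1, c2, 8)).ncard = n8)
    (h16 : (dotSet 32 u v x (c1, c2, 16)).ncard = n16) (hsum : 1 + n8 + n16 = n)
    {y : leechLattice} (hy : y ∈ dotSet 32 u v 0 (c1, c2, 0)) (hyx : y ≠ x) :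
    dotInt (x : GolayPt → ℤ) (y : GolayPt → ℤ) = 8 ∨
      dotInt (x : GolayPt → ℤ) (y : GolayPt → ℤ) = 16 := by
  have hfin : (dotSet 32 u v 0 (c1, c2, 0)).Finite :=
    Set.finite_of_ncard_ne_zero (by rw [hn]; omega)
  have hfib : ∀ c : ℤ, {y | y ∈ dotSet 32 u v 0 (c1, c2, 0) ∧
      dotInt (x : GolayPt → ℤ) (y : GolayPt → ℤ) = c} = dotSet 32 u v x (c1, c2, c) := by
    intro c
    ext z
    rw [Set.mem_setOf_eq, mem_dotSet_zero3]
    constructor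
    · rintro ⟨⟨h1, h2, h3⟩, h4⟩; exact ⟨h1, h2, h3, h4⟩
    · rintro ⟨h1, h2, h3, h4⟩; exact ⟨⟨h1, h2, h3⟩, h4⟩
  have hx' := mem_dotSet_zero3.mp hx
  have h32 : {y | y ∈ dotSet 32 u v 0 (c1, c2, 0) ∧
      dotInt (x : GolayPt → ℤ) (y : GolayPt → ℤ) = 32} = {x} := by
    ext z
    rw [Set.mem_setOf_eq, Set.mem_singleton_iff]
    constructor
    · rintro ⟨hz, hd⟩
      exact eq_of_dot_eq_sqNorm hx'.1 (mem_dotSet_zero3.mp hz).1 hd
    · rintro rfl
      exact ⟨hx, by rw [dotInt_self']; exact hx'.1⟩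
  have hval := values_of_ncard (dotSet 32 u v 0 (c1, c2, 0)) hfin
    (fun y => dotInt (x : GolayPt → ℤ) (y : GolayPt → ℤ)) [32, 8, 16] (by decide)
    (by
      simp only [List.map_cons, List.map_nil, List.sum_cons, List.sum_nil]
      rw [h32, hfib 8, hfib 16, Set.ncard_singleton, h8, h16, hn]
      omega) y hy
  simp only [List.mem_cons, List.not_mem_nil, or_false] at hval
  rcases hval with h | h | h
  · exact absurd (eq_of_dot_eq_sqNorm hx'.1 (mem_dotSet_zero3.mp hy).1 h) hyx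
  · exact Or.inl h
  · exact Or.inr h

theorem s1581 (u v x : leechLattice) (hu : sqNorm (u : GolayPt → ℤ) = 48)
    (hv : sqNorm (v : GolayPt → ℤ) = 32 ∧
      sqNorm ((u : GolayPt → ℤ) - (v : GolayPt → ℤ)) = 32)
    (hx : x ∈ {x : leechLattice | sqNorm (x : GolayPt → ℤ) = 32 ∧
      sqNorm ((u : GolayPt → ℤ) - (x : GolayPt → ℤ)) = 32 ∧
      dotInt (v : GolayPt → ℤ) (x : GolayPt → ℤ) = 16}) :
    {y : leechLattice | y ∈ {x : leechLattice | sqNorm (x : GolayPt → ℤ) = 32 ∧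
      sqNorm ((u : GolayPt → ℤ) - (x : GolayPt → ℤ)) = 32 ∧
      dotInt (v : GolayPt → ℤ) (x : GolayPt → ℤ) = 16} ∧
      dotInt (x : GolayPt → ℤ) (y : GolayPt → ℤ) = 8}.ncard = 112 ∧
    {y : leechLattice | y ∈ {x : leechLattice | sqNorm (x : GolayPt → ℤ) = 32 ∧
      sqNorm ((u : GolayPt → ℤ) - (x : GolayPt → ℤ)) = 32 ∧
      dotInt (v : GolayPt → ℤ) (x : GolayPt → ℤ) = 16} ∧ y ≠ x ∧
      dotInt (x : GolayPt → ℤ) (y : GolayPt → ℤ) = 16}.ncard = 162 ∧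
    ∀ y ∈ {x : leechLattice | sqNorm (x : GolayPt → ℤ) = 32 ∧
      sqNorm ((u : GolayPt → ℤ) - (x : GolayPt → ℤ)) = 32 ∧
      dotInt (v : GolayPt → ℤ) (x : GolayPt → ℤ) = 16},
    ∀ y' ∈ {x : leechLattice | sqNorm (x : GolayPt → ℤ) = 32 ∧
      sqNorm ((u : GolayPt → ℤ) - (x : GolayPt → ℤ)) = 32 ∧
      dotInt (v : GolayPt → ℤ) (x : GolayPt → ℤ) = 16},
      y ≠ x → y' ≠ x →
      dotInt (x : GolayPt → ℤ) (y : GolayPt → ℤ) = dotInt (x : GolayPt → ℤ) (y' : GolayPt → ℤ) →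
      ∃ g : Co0, g • u = u ∧ g • v = v ∧ g • x = x ∧ g • y = y' := by
  have hvP := memP_of u v hu hv
  rw [setR_eq u v hu] at hx ⊢
  have hx' := mem_dotSet_zero3.mp hx
  have hM := U43.card_M u v x hu hvP hx
  have hN := U43.card_N u v x hu hvP hx
  have e8 : {y : leechLattice | y ∈ dotSet 32 u v 0 (24, 16, 0) ∧
      dotInt (x : GolayPt → ℤ) (y : GolayPt → ℤ) = 8} = dotSet 32 u v x (24, 16, 8) := by
    ext z
    rw [Set.mem_setOf_eq, mem_dotSet_zero3]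
    constructor
    · rintro ⟨⟨h1, h2, h3⟩, h4⟩; exact ⟨h1, h2, h3, h4⟩
    · rintro ⟨h1, h2, h3, h4⟩; exact ⟨⟨h1, h2, h3⟩, h4⟩
  have e16 : {y : leechLattice | y ∈ dotSet 32 u v 0 (24, 16, 0) ∧ y ≠ x ∧
      dotInt (x : GolayPt → ℤ) (y : GolayPt → ℤ) = 16} = dotSet 32 u v x (24, 16, 16) := by
    ext z
    rw [Set.mem_setOf_eq, mem_dotSet_zero3]
    constructor
    · rintro ⟨⟨h1, h2, h3⟩, _, h4⟩; exact ⟨h1, h2, h3, h4⟩
    · rintro ⟨h1, h2, h3, h4⟩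
      refine ⟨⟨h1, h2, h3⟩, ?_, h4⟩
      rintro rfl
      have h4' : dotInt (z : GolayPt → ℤ) (z : GolayPt → ℤ) = 16 := h4
      rw [dotInt_self', hx'.1] at h4'
      omega
  rw [e8, e16]
  refine ⟨hM, hN, ?_⟩
  intro y hy y' hy' hyx hyx' hdd
  have hy0 := mem_dotSet_zero3.mp hy
  have hy0' := mem_dotSet_zero3.mp hy'
  rcases dots_of_card u v x 24 16 275 112 162 hx (McL.card_R u v hu hvP) hM hN (by norm_num)
    hy hyx with h | h
  · exact U43.trans_M u v x hu hvP hx ⟨hy0.1, hy0.2.1, hy0.2.2, h⟩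
      ⟨hy0'.1, hy0'.2.1, hy0'.2.2, by rw [← hdd]; exact h⟩
  · exact U43.trans_N u v x hu hvP hx ⟨hy0.1, hy0.2.1, hy0.2.2, h⟩
      ⟨hy0'.1, hy0'.2.1, hy0'.2.2, by rw [← hdd]; exact h⟩

end Cfsg.Agent.Helper4.CO.Front
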