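import Cfsg.Agent.Lib.Helper4.Orb.GrpCo2
import Cfsg.Agent.S0394

set_option autoImplicit false
set_option linter.style.haveILetI false
set_option linter.unusedVariables false
set_option linter.unusedSectionVars false

/-! The order of the automorphism group of the rank-24 lattice. -/

namespace Cfsg.Agent.Helper4.CO.Grp

open Cfsg Cfsg.Agent.Lib.Helper4 Cfsg.Agent.Lib.Helper28 Cfsg.Agent.Helper4.CO
  Cfsg.Agent.Helper4.LC MulAction

/-- the set of minimal vectors -/
def minSet : Set leechLattice := {x | sqNorm (x : GolayPt → ℤ) = 32}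

theorem ncard_minSet : minSet.ncard = 196560 := by
  unfold minSet
  rw [ncard_sub (fun x => sqNorm x = 32)]
  exact Cfsg.Agent.S0394.result

theorem orbit_min (v : leechLattice) (hv : sqNorm (v : GolayPt → ℤ) = 32) :
    orbit Co0 v = minSet := by
  ext x
  constructor
  · rintro ⟨g, rfl⟩
    show sqNorm ((g • v : leechLattice) : GolayPt → ℤ) = 32
    rw [co0_sqNorm', hv]
  · intro hx
    obtain ⟨g, hg⟩ := (conj_base32 v hv).trans (conj_base32 x hx).symm
    exact ⟨g, hg⟩

theorem card_co0 : Nat.card Co0 = 8315553613086720000 := by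
  have hv := xsV_norm
  have h1 := (stabilizer Co0 xsV).card_mul_index
  rw [index_stabilizer, orbit_min xsV hv, ncard_minSet, (co2_simpCard xsV hv).2] at h1
  rw [← h1]

theorem finite_co0 : Finite Co0 :=
  Nat.finite_of_card_ne_zero (by rw [card_co0]; norm_num)

end Cfsg.Agent.Helper4.CO.Grp
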