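import Cfsg.Agent.Lib.Helper4.Orb.QuadForm
import Cfsg.Agent.Lib.Helper4.Orb.GrpCo1
import Cfsg.Agent.S5551

set_option autoImplicit false
set_option linter.style.haveILetI false
set_option linter.unusedVariables false
set_option linter.unusedSectionVars false

/-! The rank-24 lattice modulo twice itself is a faithful irreducible module for the automorphism
group modulo its centre. -/

namespace Cfsg.Agent.Helper4.CO.Grp

open Cfsg Cfsg.Agent.Lib.Helper4 Cfsg.Agent.Lib.Helper28 Cfsg.Agent.Helper4.CO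
  Cfsg.Agent.Helper4.LC MulAction

/-- `g` moves every lattice vector by twice a lattice vector -/
def TrivMod2 (g : Co0) : Prop := ∀ v : leechLattice, ∃ w : leechLattice,
  ((g • v : leechLattice) : GolayPt → ℤ) - (v : GolayPt → ℤ) = 2 • (w : GolayPt → ℤ)

theorem sqNorm_zero' : sqNorm (0 : GolayPt → ℤ) = 0 := by
  unfold sqNorm; simp

theorem coe_ne_zero_of_norm (x : leechLattice) {N : ℤ} (hN : N ≠ 0)
    (hx : sqNorm (x : GolayPt → ℤ) = N) : (x : GolayPt → ℤ) ≠ 0 := by
  intro h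
  rw [h, sqNorm_zero'] at hx
  exact hN hx.symm

theorem pm_of_triv (g : Co0) (hg : TrivMod2 g) (v : leechLattice)
    (hv : sqNorm (v : GolayPt → ℤ) = 32) : g • v = v ∨ g • v = -v := by
  obtain ⟨w, hw⟩ := hg v
  have hgv : sqNorm ((g • v : leechLattice) : GolayPt → ℤ) = 32 := by rw [co0_sqNorm', hv]
  have h := Cfsg.Agent.S5551.result ((g • v : leechLattice) : GolayPt → ℤ) (v : GolayPt → ℤ)
    (g • v).2 v.2 (coe_ne_zero_of_norm _ (by norm_num) hgv) (coe_ne_zero_of_norm _ (by norm_num) hv)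
    (by rw [hgv]; norm_num) (by rw [hv]; norm_num) ⟨w, w.2, hw⟩
  rcases h.2 (by rw [hgv]; norm_num) with h1 | h1
  · left; exact Subtype.ext h1.symm
  · right
    apply Subtype.ext
    show ((g • v : leechLattice) : GolayPt → ℤ) = -(v : GolayPt → ℤ)
    rw [h1, neg_neg]

theorem fix_of_add (g : Co0) (hg : TrivMod2 g) (v w : leechLattice)
    (hw : sqNorm (w : GolayPt → ℤ) = 32) (hv : sqNorm (v : GolayPt → ℤ) = 32)
    (hvw : sqNorm ((v + w : leechLattice) : GolayPt → ℤ) = 32) (hgv : g • v = v) :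
    g • w = w := by
  rcases pm_of_triv g hg w hw with h | h
  · exact h
  · exfalso
    have h1 : g • (v + w) = v + -w := by rw [co0_smul_add, hgv, h]
    rcases pm_of_triv g hg (v + w) hvw with h2 | h2
    · rw [h1] at h2
      have h3 : -w = w := add_left_cancel h2
      exact ne_neg_of_norm w (by norm_num : (32 : ℤ) ≠ 0) hw h3.symm
    · rw [h1, neg_add] at h2
      have h3 : v = -v := add_right_cancel h2
      exact ne_neg_of_norm v (by norm_num : (32 : ℤ) ≠ 0) hv h3

theorem fix_of_dot (g : Co0) (hg : TrivMod2 g) (v w : leechLattice)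
    (hv : sqNorm (v : GolayPt → ℤ) = 32) (hw : sqNorm (w : GolayPt → ℤ) = 32)
    (hd : dotInt (v : GolayPt → ℤ) (w : GolayPt → ℤ) = -16 ∨
      dotInt (v : GolayPt → ℤ) (w : GolayPt → ℤ) = 16) (hgv : g • v = v) : g • w = w := by
  rcases hd with hd | hd
  · apply fix_of_add g hg v w hw hv _ hgv
    show sqNorm ((v : GolayPt → ℤ) + (w : GolayPt → ℤ)) = 32
    rw [sqNorm_add, hv, hw, hd]; norm_num
  · have hnw : sqNorm ((-w : leechLattice) : GolayPt → ℤ) = 32 := by
      rw [AddSubgroup.coe_neg, sqNorm_neg']; exact hw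
    have h1 : g • (-w) = -w := by
      apply fix_of_add g hg v (-w) hnw hv _ hgv
      show sqNorm ((v : GolayPt → ℤ) + ((-w : leechLattice) : GolayPt → ℤ)) = 32
      rw [sqNorm_add, hv, hnw, AddSubgroup.coe_neg, dotInt_neg_right, hd]; norm_num
    rw [co0_smul_neg] at h1
    exact neg_injective h1

/-- further explicit vectors -/
def qx : List ℤ := [0, -4, 4, 0, 0, 0, 0, 0, 0, 0, 0, 0, 0, 0, 0, 0, 0, 0, 0, 0, 0, 0, 0, 0]
def qw : List ℤ := [4, -4, 0, 0, 0, 0, 0, 0, 0, 0, 0, 0, 0, 0, 0, 0, 0, 0, 0, 0, 0, 0, 0, 0]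
def qab' : List ℤ := [1, 5, 1, 1, 1, 1, 1, 1, 1, 1, 1, 1, 1, 1, 1, 1, 1, 1, 1, 1, 1, 1, 1, 1]
def q64 : List ℤ := [4, 4, 4, 4, 0, 0, 0, 0, 0, 0, 0, 0, 0, 0, 0, 0, 0, 0, 0, 0, 0, 0, 0, 0]
def q64' : List ℤ := [4, 4, 4, 0, 4, 0, 0, 0, 0, 0, 0, 0, 0, 0, 0, 0, 0, 0, 0, 0, 0, 0, 0, 0]
def qm : List ℤ := [0, 0, 0, 4, -4, 0, 0, 0, 0, 0, 0, 0, 0, 0, 0, 0, 0, 0, 0, 0, 0, 0, 0, 0]

theorem qx_in : InLP qx := by decide +kernel
theorem qw_in : InLP qw := by decide +kernel
theorem qab'_in : InLP qab' := by decide +kernel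
theorem q64_in : InLP q64 := by decide +kernel
theorem q64'_in : InLP q64' := by decide +kernel
theorem qm_in : InLP qm := by decide +kernel

theorem mkL_dot (a b : List ℤ) (ha : InLP a) (hb : InLP b) (N : ℤ) (hN : dotL a b = N) :
    dotInt ((mkL a ha : leechLattice) : GolayPt → ℤ) ((mkL b hb : leechLattice) : GolayPt → ℤ)
      = N := by
  rw [mkL_coe, mkL_coe, dotInt_toV _ _ ha.1 hb.1]; exact hN

theorem exists_mid (c : ℤ)
    (htr : ∀ x ∈ statSet 32 C2.anc0 C2.anc1 C2.anc2 (c, 0, 0),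
      ∀ y ∈ statSet 32 C2.anc0 C2.anc1 C2.anc2 (c, 0, 0),
      ∃ g : Co0, (∀ a ∈ C2.anchors, FixL g a) ∧ g • x = y)
    (l : List ℤ) (hl : InLP l) (hln : dotL l l = 32) (hlc : dotL qa l = c)
    (hlx : dotL qx l = 16)
    (w : leechLattice) (hw : sqNorm (w : GolayPt → ℤ) = 32)
    (hd : dotInt ((mkL qa qa_in : leechLattice) : GolayPt → ℤ) (w : GolayPt → ℤ) = c) :
    ∃ x : leechLattice, sqNorm (x : GolayPt → ℤ) = 32 ∧
      dotInt ((mkL qa qa_in : leechLattice) : GolayPt → ℤ) (x : GolayPt → ℤ) = -16 ∧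
      dotInt (x : GolayPt → ℤ) (w : GolayPt → ℤ) = 16 := by
  obtain ⟨h, hv, hw'⟩ := C2.main_trans c htr (mkL qa qa_in) (mkL l hl) w
    (mkL_norm qa qa_in 32 (by decide)) (mkL_norm l hl 32 hln) hw
    (mkL_dot qa l qa_in hl c hlc) hd
  refine ⟨h • mkL qx qx_in, ?_, ?_, ?_⟩
  · rw [co0_sqNorm']; exact mkL_norm qx qx_in 32 (by decide)
  · have := co0_dot' h (mkL qa qa_in) (mkL qx qx_in)
    rw [hv] at this
    rw [this]
    exact mkL_dot qa qx qa_in qx_in (-16) (by decide)
  · have := co0_dot' h (mkL qx qx_in) (mkL l hl)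
    rw [hw'] at this
    rw [this]
    exact mkL_dot qx l qx_in hl 16 hlx

theorem fix_all_min (g : Co0) (hg : TrivMod2 g) (hq : g • mkL qa qa_in = mkL qa qa_in)
    (w : leechLattice) (hw : sqNorm (w : GolayPt → ℤ) = 32) : g • w = w := by
  have hv0 : sqNorm ((mkL qa qa_in : leechLattice) : GolayPt → ℤ) = 32 :=
    mkL_norm qa qa_in 32 (by decide)
  have hnw : sqNorm ((-w : leechLattice) : GolayPt → ℤ) = 32 := by
    rw [AddSubgroup.coe_neg, sqNorm_neg']; exact hw
  have key : ∀ (c : ℤ) (htr : ∀ x ∈ statSet 32 C2.anc0 C2.anc1 C2.anc2 (c, 0, 0),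
      ∀ y ∈ statSet 32 C2.anc0 C2.anc1 C2.anc2 (c, 0, 0),
      ∃ g : Co0, (∀ a ∈ C2.anchors, FixL g a) ∧ g • x = y)
      (l : List ℤ) (hl : InLP l) (hln : dotL l l = 32) (hlc : dotL qa l = c)
      (hlx : dotL qx l = 16) (w : leechLattice) (hw : sqNorm (w : GolayPt → ℤ) = 32)
      (hd : dotInt ((mkL qa qa_in : leechLattice) : GolayPt → ℤ) (w : GolayPt → ℤ) = c),
      g • w = w := by
    intro c htr l hl hln hlc hlx w hw hd
    obtain ⟨x, hx, hx1, hx2⟩ := exists_mid c htr l hl hln hlc hlx w hw hd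
    exact fix_of_dot g hg x w hx hw (Or.inr hx2)
      (fix_of_dot g hg _ x hv0 hx (Or.inl hx1) hq)
  have hc := min_cases (mkL qa qa_in) hv0 (z := w) hw
  simp only [List.mem_cons, List.not_mem_nil, or_false] at hc
  rcases hc with h | h | h | h | h | h | h
  · have := eq_of_dot_eq_sqNorm hv0 hw h
    rw [this]; exact hq
  · have h5 : -w = mkL qa qa_in := by
      apply eq_of_dot_eq_sqNorm hv0 hnw
      rw [AddSubgroup.coe_neg, dotInt_neg_right, h]; norm_num
    have h6 : g • (-w) = -w := by rw [h5]; exact hq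
    rw [co0_smul_neg] at h6
    exact neg_injective h6
  · exact fix_of_dot g hg _ w hv0 hw (Or.inl h) hq
  · exact fix_of_dot g hg _ w hv0 hw (Or.inr h) hq
  · exact key (-8) C2.transB qb qb_in (by decide) (by decide) (by decide) w hw h
  · have h6 : g • (-w) = -w :=
      key (-8) C2.transB qb qb_in (by decide) (by decide) (by decide) (-w) hnw
        (by rw [AddSubgroup.coe_neg, dotInt_neg_right, h])
    rw [co0_smul_neg] at h6
    exact neg_injective h6
  · exact key 0 C2.transC qw qw_in (by decide) (by decide) (by decide) w hw h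

/-- the vectors fixed by `g` -/
def fixSub (g : Co0) : AddSubgroup (GolayPt → ℤ) where
  carrier := {x | ∃ hx : x ∈ leechLattice, g • (⟨x, hx⟩ : leechLattice) = ⟨x, hx⟩}
  zero_mem' := ⟨leechLattice.zero_mem, co0_smul_zero g⟩
  add_mem' := by
    rintro a b ⟨ha, ha'⟩ ⟨hb, hb'⟩
    refine ⟨leechLattice.add_mem ha hb, ?_⟩
    have := co0_smul_add g ⟨a, ha⟩ ⟨b, hb⟩
    rw [ha', hb'] at this
    exact this
  neg_mem' := by
    rintro a ⟨ha, ha'⟩
    refine ⟨leechLattice.neg_mem ha, ?_⟩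
    have := co0_smul_neg g ⟨a, ha⟩
    rw [ha'] at this
    exact this

theorem eq_one_of_fix_min (g : Co0)
    (h : ∀ w : leechLattice, sqNorm (w : GolayPt → ℤ) = 32 → g • w = w) : g = 1 := by
  have hle : leechLattice ≤ fixSub g := by
    rw [← closure_minVecs, AddSubgroup.closure_le]
    rintro x ⟨hx, hn⟩
    exact ⟨hx, h ⟨x, hx⟩ hn⟩
  apply Subtype.ext
  apply Equiv.ext
  intro v
  obtain ⟨hx, hv⟩ := hle v.2
  exact hv

theorem center_of_triv (g : Co0) (hg : TrivMod2 g) : g ∈ Subgroup.center Co0 := by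
  have hv0 : sqNorm ((mkL qa qa_in : leechLattice) : GolayPt → ℤ) = 32 :=
    mkL_norm qa qa_in 32 (by decide)
  rcases pm_of_triv g hg (mkL qa qa_in) hv0 with h | h
  · have : g = 1 := eq_one_of_fix_min g (fix_all_min g hg h)
    rw [this]; exact Subgroup.one_mem _
  · have hg' : TrivMod2 (negE * g) := by
      intro v
      obtain ⟨w, hw⟩ := hg v
      refine ⟨-w - v, ?_⟩
      rw [mul_smul, negE_smul]
      funext i
      have := congrFun hw i
      simp only [AddSubgroup.coe_neg, AddSubgroup.coe_sub, Pi.sub_apply, Pi.neg_apply,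
        Pi.smul_apply, smul_eq_mul, nsmul_eq_mul, Nat.cast_ofNat] at this ⊢
      omega
    have h' : (negE * g) • mkL qa qa_in = mkL qa qa_in := by
      rw [mul_smul, h, negE_smul, neg_neg]
    have h1 : negE * g = 1 := eq_one_of_fix_min _ (fix_all_min _ hg' h')
    have h2 : g = negE⁻¹ := eq_inv_of_mul_eq_one_right h1
    rw [h2]; exact Subgroup.inv_mem _ negE_mem_center

theorem irred_mod_two (M : AddSubgroup (GolayPt → ℤ))
    (h2 : ∀ v ∈ leechLattice, (2 : ℤ) • v ∈ M) (hM : M ≤ leechLattice)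
    (hinv : ∀ g : Co0, ∀ v : leechLattice, (v : GolayPt → ℤ) ∈ M →
      ((g • v : leechLattice) : GolayPt → ℤ) ∈ M) :
    (∀ x ∈ M, ∃ w ∈ leechLattice, x = (2 : ℤ) • w) ∨ M = leechLattice := by
  by_cases hall : ∀ x ∈ M, ∃ w ∈ leechLattice, x = (2 : ℤ) • w
  · left; exact hall
  · right
    push_neg at hall
    obtain ⟨x, hxM, hx⟩ := hall
    obtain ⟨y, z, hyz, hn⟩ := exists_rep ⟨x, hM hxM⟩
    have hxy : x = (y : GolayPt → ℤ) + (2 : ℤ) • (z : GolayPt → ℤ) := by
      have := congrArg (fun t : leechLattice => (t : GolayPt → ℤ)) hyz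
      simp only [AddSubgroup.coe_add] at this
      rw [this, two_smul]
    have hyM : (y : GolayPt → ℤ) ∈ M := by
      have h1 : (2 : ℤ) • (z : GolayPt → ℤ) ∈ M := h2 z z.2
      have h3 : (y : GolayPt → ℤ) = x - (2 : ℤ) • (z : GolayPt → ℤ) := by rw [hxy]; abel
      rw [h3]; exact M.sub_mem hxM h1
    have tr : ∀ (a b : leechLattice), Conj a b → (a : GolayPt → ℤ) ∈ M →
        (b : GolayPt → ℤ) ∈ M := by
      rintro a b ⟨g, rfl⟩ ha
      exact hinv g a ha
    have hmin : ∃ m : leechLattice, sqNorm (m : GolayPt → ℤ) = 32 ∧ (m : GolayPt → ℤ) ∈ M := by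
      rcases hn with h0 | h32 | h48 | h64
      · exfalso
        have hy0 : (y : GolayPt → ℤ) = 0 := by
          by_contra hne
          have := Cfsg.Agent.S0391.result _ y.2 hne
          omega
        apply hx z z.2
        rw [hxy, hy0, zero_add]
      · exact ⟨y, h32, hyM⟩
      · have hall48 : ∀ t : leechLattice, sqNorm (t : GolayPt → ℤ) = 48 →
            (t : GolayPt → ℤ) ∈ M := fun t ht =>
          tr y t ((conj_base48 y h48).trans (conj_base48 t ht).symm) hyM
        refine ⟨mkL qw qw_in, mkL_norm qw qw_in 32 (by decide), ?_⟩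
        have e : mkL qab' qab'_in + mkL qw qw_in = mkL qab qab_in :=
          mkL_add _ _ _ _ _ _ (by decide)
        have e' : ((mkL qw qw_in : leechLattice) : GolayPt → ℤ) =
            ((mkL qab qab_in : leechLattice) : GolayPt → ℤ) -
              ((mkL qab' qab'_in : leechLattice) : GolayPt → ℤ) := by
          rw [← e, AddSubgroup.coe_add]; abel
        rw [e']
        exact M.sub_mem (hall48 _ (mkL_norm qab qab_in 48 (by decide)))
          (hall48 _ (mkL_norm qab' qab'_in 48 (by decide)))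
      · have hall64 : ∀ t : leechLattice, sqNorm (t : GolayPt → ℤ) = 64 →
            (t : GolayPt → ℤ) ∈ M := fun t ht => tr y t (trans64 y t h64 ht) hyM
        refine ⟨mkL qm qm_in, mkL_norm qm qm_in 32 (by decide), ?_⟩
        have e : mkL q64' q64'_in + mkL qm qm_in = mkL q64 q64_in :=
          mkL_add _ _ _ _ _ _ (by decide)
        have e' : ((mkL qm qm_in : leechLattice) : GolayPt → ℤ) =
            ((mkL q64 q64_in : leechLattice) : GolayPt → ℤ) -
              ((mkL q64' q64'_in : leechLattice) : GolayPt → ℤ) := by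
          rw [← e, AddSubgroup.coe_add]; abel
        rw [e']
        exact M.sub_mem (hall64 _ (mkL_norm q64 q64_in 64 (by decide)))
          (hall64 _ (mkL_norm q64' q64'_in 64 (by decide)))
    obtain ⟨m, hm, hmM⟩ := hmin
    have hallmin : ∀ t : leechLattice, sqNorm (t : GolayPt → ℤ) = 32 →
        (t : GolayPt → ℤ) ∈ M := fun t ht =>
      tr m t ((conj_base32 m hm).trans (conj_base32 t ht).symm) hmM
    apply le_antisymm hM
    rw [← closure_minVecs, AddSubgroup.closure_le]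
    rintro t ⟨ht, htn⟩
    exact hallmin ⟨t, ht⟩ htn

end Cfsg.Agent.Helper4.CO.Grp
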