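import Cfsg.Agent.Lib.Helper4.Orb.CoTrans64
import Cfsg.Agent.Lib.Helper4.CoTrans48
import Cfsg.Agent.S1570
import Cfsg.Agent.S0391
import Cfsg.Agent.S0392

set_option autoImplicit false
set_option linter.style.haveILetI false
set_option linter.unusedVariables false
set_option linter.unusedSectionVars false

/-! The only non-zero invariant quadratic form on the rank-24 lattice modulo twice itself is the
sum of squares over 16, modulo 2. -/

namespace Cfsg.Agent.Helper4.CO.Grp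

open Cfsg Cfsg.Agent.Lib.Helper4 Cfsg.Agent.Lib.Helper28 Cfsg.Agent.Helper4.CO
  Cfsg.Agent.Helper4.LC MulAction

/-- a short representative of a class modulo twice the lattice -/
theorem exists_rep (v : leechLattice) : ∃ y z : leechLattice, v = y + (z + z) ∧
    (sqNorm (y : GolayPt → ℤ) = 0 ∨ sqNorm (y : GolayPt → ℤ) = 32 ∨
      sqNorm (y : GolayPt → ℤ) = 48 ∨ sqNorm (y : GolayPt → ℤ) = 64) := by
  obtain ⟨y, hy, hn, z, hz, he⟩ := Cfsg.Agent.S1570.result v v.2
  refine ⟨⟨y, hy⟩, ⟨z, hz⟩, ?_, ?_⟩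
  · apply Subtype.ext
    show (v : GolayPt → ℤ) = y + (z + z)
    have : (v : GolayPt → ℤ) = y + 2 • z := by rw [← he]; abel
    rw [this, two_nsmul]
  · have h16 := Cfsg.Agent.S0392.result y hy
    by_cases h0 : y = 0
    · left
      show sqNorm y = 0
      rw [h0]; unfold sqNorm; simp
    · have h32 := Cfsg.Agent.S0391.result y hy h0
      right
      show sqNorm y = 32 ∨ sqNorm y = 48 ∨ sqNorm y = 64
      omega

theorem dot_dvd (y z : leechLattice) :
    (8 : ℤ) ∣ dotInt (y : GolayPt → ℤ) (z : GolayPt → ℤ) := by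
  have h1 := Cfsg.Agent.S0392.result _ (y + z).2
  have h2 := Cfsg.Agent.S0392.result _ y.2
  have h3 := Cfsg.Agent.S0392.result _ z.2
  have e : ((y + z : leechLattice) : GolayPt → ℤ) = (y : GolayPt → ℤ) + (z : GolayPt → ℤ) := rfl
  rw [e, sqNorm_add] at h1
  omega

/-- the sum of squares over 16, modulo 2, is constant on classes -/
theorem norm_class (y z : leechLattice) :
    (sqNorm ((y + (z + z) : leechLattice) : GolayPt → ℤ) / 16) % 2 =
      (sqNorm (y : GolayPt → ℤ) / 16) % 2 := by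
  have h1 := Cfsg.Agent.S0392.result _ (y + (z + z)).2
  have h2 := Cfsg.Agent.S0392.result _ y.2
  have h3 := Cfsg.Agent.S0392.result _ z.2
  have h4 := dot_dvd y z
  have e : ((y + (z + z) : leechLattice) : GolayPt → ℤ) =
      (y : GolayPt → ℤ) + ((z : GolayPt → ℤ) + (z : GolayPt → ℤ)) := rfl
  have e2 : sqNorm ((y : GolayPt → ℤ) + ((z : GolayPt → ℤ) + (z : GolayPt → ℤ))) =
      sqNorm (y : GolayPt → ℤ) + 4 * sqNorm (z : GolayPt → ℤ) +
        4 * dotInt (y : GolayPt → ℤ) (z : GolayPt → ℤ) := by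
    rw [sqNorm_add, sqNorm_add, dotInt_add_right, dotInt_self']
    ring
  rw [e, e2] at h1 ⊢
  omega

/-- explicit vectors -/
def qa : List ℤ := [4, 4, 0, 0, 0, 0, 0, 0, 0, 0, 0, 0, 0, 0, 0, 0, 0, 0, 0, 0, 0, 0, 0, 0]
def qb : List ℤ := [1, -3, 1, 1, 1, 1, 1, 1, 1, 1, 1, 1, 1, 1, 1, 1, 1, 1, 1, 1, 1, 1, 1, 1]
def qc : List ℤ := [-4, 0, 4, 0, 0, 0, 0, 0, 0, 0, 0, 0, 0, 0, 0, 0, 0, 0, 0, 0, 0, 0, 0, 0]
def qc' : List ℤ := [-4, 0, -4, 0, 0, 0, 0, 0, 0, 0, 0, 0, 0, 0, 0, 0, 0, 0, 0, 0, 0, 0, 0, 0]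
def qab : List ℤ := [5, 1, 1, 1, 1, 1, 1, 1, 1, 1, 1, 1, 1, 1, 1, 1, 1, 1, 1, 1, 1, 1, 1, 1]
def qac : List ℤ := [0, 4, 4, 0, 0, 0, 0, 0, 0, 0, 0, 0, 0, 0, 0, 0, 0, 0, 0, 0, 0, 0, 0, 0]
def qbc : List ℤ := [-3, -3, 5, 1, 1, 1, 1, 1, 1, 1, 1, 1, 1, 1, 1, 1, 1, 1, 1, 1, 1, 1, 1, 1]
def qabc : List ℤ := [1, 1, 5, 1, 1, 1, 1, 1, 1, 1, 1, 1, 1, 1, 1, 1, 1, 1, 1, 1, 1, 1, 1, 1]
def qac' : List ℤ := [0, 4, -4, 0, 0, 0, 0, 0, 0, 0, 0, 0, 0, 0, 0, 0, 0, 0, 0, 0, 0, 0, 0, 0]
def qbc' : List ℤ := [-3, -3, -3, 1, 1, 1, 1, 1, 1, 1, 1, 1, 1, 1, 1, 1, 1, 1, 1, 1, 1, 1, 1, 1]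
def qabc' : List ℤ := [1, 1, -3, 1, 1, 1, 1, 1, 1, 1, 1, 1, 1, 1, 1, 1, 1, 1, 1, 1, 1, 1, 1, 1]

theorem qa_in : InLP qa := by decide +kernel
theorem qb_in : InLP qb := by decide +kernel
theorem qc_in : InLP qc := by decide +kernel
theorem qc'_in : InLP qc' := by decide +kernel
theorem qab_in : InLP qab := by decide +kernel
theorem qac_in : InLP qac := by decide +kernel
theorem qbc_in : InLP qbc := by decide +kernel
theorem qabc_in : InLP qabc := by decide +kernel
theorem qac'_in : InLP qac' := by decide +kernel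
theorem qbc'_in : InLP qbc' := by decide +kernel
theorem qabc'_in : InLP qabc' := by decide +kernel

theorem mkL_add (l1 l2 l3 : List ℤ) (h1 : InLP l1) (h2 : InLP l2) (h3 : InLP l3)
    (h : ∀ a : Fin 24, l1.getD a.val 0 + l2.getD a.val 0 = l3.getD a.val 0) :
    mkL l1 h1 + mkL l2 h2 = mkL l3 h3 := by
  apply Subtype.ext
  apply ext_pt
  intro a
  show toV l1 (pt a) + toV l2 (pt a) = toV l3 (pt a)
  rw [toV_pt, toV_pt, toV_pt]
  exact h a

theorem mkL_norm (l : List ℤ) (h : InLP l) (N : ℤ) (hN : dotL l l = N) :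
    sqNorm ((mkL l h : leechLattice) : GolayPt → ℤ) = N := by
  rw [mkL_coe, sqNorm_toV l h.1]; exact hN

section

variable (Q : leechLattice → ZMod 2)
  (hcoset : ∀ v w : leechLattice, Q (v + (w + w)) = Q v)
  (hquad : ∀ u v w : leechLattice,
    Q (u + v + w) + Q u + Q v + Q w = Q (u + v) + Q (u + w) + Q (v + w))
  (hinv : ∀ (g : Co0) (v : leechLattice), Q (g • v) = Q v)

include hinv in
theorem q_const (N : ℤ) (hN : N = 32 ∨ N = 48 ∨ N = 64) (x y : leechLattice)
    (hx : sqNorm (x : GolayPt → ℤ) = N) (hy : sqNorm (y : GolayPt → ℤ) = N) : Q x = Q y := by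
  have : ∃ g : Co0, g • x = y := by
    rcases hN with rfl | rfl | rfl
    · exact (conj_base32 x hx).trans (conj_base32 y hy).symm
    · exact (conj_base48 x hx).trans (conj_base48 y hy).symm
    · exact trans64 x y hx hy
  obtain ⟨g, rfl⟩ := this
  exact (hinv g x).symm

include hquad in
theorem q_zero : Q 0 = 0 := by
  have := hquad 0 0 0
  simp only [add_zero] at this
  generalize Q 0 = a at this
  revert a
  decide

include hcoset hquad hinv in
theorem quad_unique (hne : ∃ v : leechLattice, Q v ≠ 0) (v : leechLattice) :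
    Q v = ((sqNorm (v : GolayPt → ℤ) / 16 : ℤ) : ZMod 2) := by
  have hab : mkL qa qa_in + mkL qb qb_in = mkL qab qab_in :=
    mkL_add _ _ _ _ _ _ (by decide)
  have hac : mkL qa qa_in + mkL qc qc_in = mkL qac qac_in :=
    mkL_add _ _ _ _ _ _ (by decide)
  have hbc : mkL qb qb_in + mkL qc qc_in = mkL qbc qbc_in :=
    mkL_add _ _ _ _ _ _ (by decide)
  have habc : mkL qab qab_in + mkL qc qc_in = mkL qabc qabc_in :=
    mkL_add _ _ _ _ _ _ (by decide)
  have hac' : mkL qa qa_in + mkL qc' qc'_in = mkL qac' qac'_in :=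
    mkL_add _ _ _ _ _ _ (by decide)
  have hbc' : mkL qb qb_in + mkL qc' qc'_in = mkL qbc' qbc'_in :=
    mkL_add _ _ _ _ _ _ (by decide)
  have habc' : mkL qab qab_in + mkL qc' qc'_in = mkL qabc' qabc'_in :=
    mkL_add _ _ _ _ _ _ (by decide)
  have e1 := hquad (mkL qa qa_in) (mkL qb qb_in) (mkL qc qc_in)
  rw [hab, habc, hac, hbc] at e1
  have e2 := hquad (mkL qa qa_in) (mkL qb qb_in) (mkL qc' qc'_in)
  rw [hab, habc', hac', hbc'] at e2
  -- norms
  have n_a := mkL_norm qa qa_in 32 (by decide)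
  have n_b := mkL_norm qb qb_in 32 (by decide)
  have n_c := mkL_norm qc qc_in 32 (by decide)
  have n_c' := mkL_norm qc' qc'_in 32 (by decide)
  have n_ab := mkL_norm qab qab_in 48 (by decide)
  have n_ac := mkL_norm qac qac_in 32 (by decide)
  have n_bc := mkL_norm qbc qbc_in 64 (by decide)
  have n_abc := mkL_norm qabc qabc_in 48 (by decide)
  have n_ac' := mkL_norm qac' qac'_in 32 (by decide)
  have n_bc' := mkL_norm qbc' qbc'_in 48 (by decide)
  have n_abc' := mkL_norm qabc' qabc'_in 32 (by decide)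
  have c32 := q_const Q hinv 32 (Or.inl rfl)
  have c48 := q_const Q hinv 48 (Or.inr (Or.inl rfl))
  have c64 := q_const Q hinv 64 (Or.inr (Or.inr rfl))
  -- all values in terms of three
  rw [c32 _ _ n_b n_a, c32 _ _ n_c n_a, c32 _ _ n_ac n_a, c48 _ _ n_abc n_ab] at e1
  rw [c32 _ _ n_b n_a, c32 _ _ n_c' n_a, c32 _ _ n_ac' n_a, c32 _ _ n_abc' n_a,
    c48 _ _ n_bc' n_ab] at e2
  have h64 : Q (mkL qbc qbc_in) = 0 := by
    generalize Q (mkL qbc qbc_in) = x4 at e1
    generalize Q (mkL qab qab_in) = x3 at e1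
    generalize Q (mkL qa qa_in) = x2 at e1
    revert x2 x3 x4
    decide
  have h32 : Q (mkL qa qa_in) = 0 := by
    generalize Q (mkL qab qab_in) = x3 at e2
    generalize Q (mkL qa qa_in) = x2 at e2
    revert x2 x3
    decide
  have h0 := q_zero Q hquad
  -- values on representatives
  have hrep : ∀ y : leechLattice, (sqNorm (y : GolayPt → ℤ) = 0 ∨ sqNorm (y : GolayPt → ℤ) = 32 ∨
      sqNorm (y : GolayPt → ℤ) = 48 ∨ sqNorm (y : GolayPt → ℤ) = 64) →
      Q y = if sqNorm (y : GolayPt → ℤ) = 48 then Q (mkL qab qab_in) else 0 := by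
    intro y hy
    rcases hy with h | h | h | h
    · have hy0 : y = 0 := by
        by_contra hne0
        have hne1 : (y : GolayPt → ℤ) ≠ 0 := fun h1 => hne0 (Subtype.ext h1)
        have := Cfsg.Agent.S0391.result y y.2 hne1
        omega
      rw [if_neg (by rw [h]; norm_num), hy0, h0]
    · rw [if_neg (by rw [h]; norm_num), c32 _ _ h n_a, h32]
    · rw [if_pos h, c48 _ _ h n_ab]
    · rw [if_neg (by rw [h]; norm_num), c64 _ _ h n_bc, h64]
  have h48 : Q (mkL qab qab_in) = 1 := by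
    obtain ⟨v', hv'⟩ := hne
    obtain ⟨y, z, hyz, hy⟩ := exists_rep v'
    rw [hyz, hcoset, hrep y hy] at hv'
    by_cases h : sqNorm (y : GolayPt → ℤ) = 48
    · rw [if_pos h] at hv'
      generalize Q (mkL qab qab_in) = x3 at hv'
      revert x3
      decide
    · rw [if_neg h] at hv'
      exact absurd rfl hv'
  obtain ⟨y, z, hyz, hy⟩ := exists_rep v
  rw [hyz, hcoset, hrep y hy, h48]
  have hcls := norm_class y z
  rw [(ZMod.intCast_eq_intCast_iff_dvd_sub _ _ 2).mpr ?_] 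
  swap
  · exact (sqNorm (y : GolayPt → ℤ) / 16)
  · rcases hy with h | h | h | h
    · rw [if_neg (by rw [h]; norm_num), h]; norm_num
    · rw [if_neg (by rw [h]; norm_num), h]; decide
    · rw [if_pos h, h]; decide
    · rw [if_neg (by rw [h]; norm_num), h]; decide
  · have : (2 : ℤ) ∣ sqNorm (y : GolayPt → ℤ) / 16 -
        sqNorm ((y + (z + z) : leechLattice) : GolayPt → ℤ) / 16 := by omega
    exact_mod_cast this

end

end Cfsg.Agent.Helper4.CO.Grp
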